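import Cfsg.Agent.H710.Cuspidal
import Cfsg.Agent.H627.Gow.Mackey_m3
import Cfsg.Agent.H431.ExcChar
import Cfsg.Agent.S0928
import Cfsg.Agent.H113.Two.PsuChars
import Cfsg.Agent.H477.HC.Levi
import Mathlib
import Cfsg.Agent.H595.Central
import Cfsg.Agent.S0198
import Cfsg.Agent.H749.BlockOrth_m3
import Cfsg.Agent.Characters.ClassMul
import Cfsg.Agent.Characters.DegreeBounds
import Cfsg.Agent.Characters.GaloisBasic
import Cfsg.Agent.CharactersDeep.ModCongr
import Cfsg.Agent.CharactersDeep.BrauerLocal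
import Cfsg.Agent.Blocks.Knorr
import Cfsg.Agent.H665.NoPQ
import Cfsg.Agent.H546.MElevenB_m3
import Cfsg.Agent.CTwoTab.Co1
import Cfsg.Agent.H678.PV.CoSym
import Cfsg.Agent.BpSpor.CoTwoFive
import Cfsg.Agent.CoOneType.ClosingCo1
import Cfsg.Agent.CoOneType.InvMain
import Cfsg.Agent.S0382
import Cfsg.Agent.S0399
import Cfsg.Agent.H729.M24Deg
import Cfsg.Agent.FastGrp
import Cfsg.Agent.Prune
set_option linter.all false

section
prune_inst 0x7ffeebf9aba889dfdffb7e3fa698cdfc30800fffa4dff94bffe069bf6b9f23000dc1f38d89e010fc1eb6c21410a87803f9ffdeffe06bd87ffffd1ff41ffbee4fe5f7b50951d48c340f382ffe03f0678e6f3ffffffffffffffffffff7ffffffbeffbff3feffff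

-- part: H113/Cusp/Tool
section
prune_inst 0x1040050007020000000005963120003068000422004000004020090608023022408220410c002c14120a88810005002002100080424000000e000400000101000080020011000008400006000183000000000000000000000000800000041004008000000
set_option linter.all false
open scoped Cfsg.Agent.FastGrp

/-!
# Large families of irreducible characters agreeing on a parabolic subgroup are cuspidal (helper113)

`P ≤ G`, `V ≤ P` normalised by `P`, `χ : ι → G → ℂ` a family of distinct irreducible characters which agree on `P`.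

* `card_le` : if the sum over `V` is not zero then there is an irreducible character `ψ` of `P` trivial on `V` which is
  contained in all `χ i`, and `card ι ≤ [Ind ψ, Ind ψ]`.
* `norm_le` : `[Ind ψ, Ind ψ] ≤ 1 + ∑ m(y)`, over representatives `y` of the double cosets outside `P`,
  `MLe P ψ y m` : `[ψ, ψ^y] ≤ m` on `P ∩ y P y⁻¹`.
* `mLe_mul` : `m(y) ≤ d(X) d(X')`, `X = P ∩ y V y⁻¹`, `X' = P ∩ y⁻¹ V y`, `d(X) = [ψ|X, 1]` (`DLe ψ X d`).
* `dLe_two` : `d(X) ≤ 2` in a rank one situation; `mLe_one` : `m(y) ≤ 1` in the opposite case.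
-/

set_option autoImplicit false
set_option linter.unusedSectionVars false

open scoped ComplexConjugate
open Cfsg

namespace Cfsg.Agent.H113.Cusp.Tool

open Cfsg.Agent.OddOrderCharacters.Clifford Cfsg.Agent.Characters Cfsg.Agent.H53.HC
  Cfsg.Agent.Characters.DegreeBounds Module Representation
open Cfsg.Agent.H710.Cuspidal (Z rho_mul_Z Z_mul_Z)

section fix

variable {P : Type*} [Group P] {V : Type*} [AddCommGroup V] [Module ℂ V]

/-- the vectors fixed by `X` -/
def fixS (ρ : Representation ℂ P V) (X : Subgroup P) : Submodule ℂ V where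
  carrier := {v | ∀ x ∈ X, ρ x v = v}
  zero_mem' := fun x _ => map_zero _
  add_mem' := fun {a b} ha hb x hx => by rw [map_add, ha x hx, hb x hx]
  smul_mem' := fun c a ha x hx => by rw [map_smul, ha x hx]

/-- the projection to the fixed vectors -/
noncomputable def pr (ρ : Representation ℂ P V) (X : Subgroup P) [Fintype X] : Module.End ℂ V :=
  (Nat.card X : ℂ)⁻¹ • Z ρ X

variable (ρ : Representation ℂ P V) (X : Subgroup P) [Fintype X]

theorem rho_mul_pr {x : P} (hx : x ∈ X) : ρ x * pr ρ X = pr ρ X := by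
  unfold pr
  rw [mul_smul_comm, rho_mul_Z ρ X hx]

theorem pr_mul_rho {x : P} (hx : x ∈ X) : pr ρ X * ρ x = pr ρ X := by
  unfold pr
  rw [smul_mul_assoc]
  congr 1
  unfold Z
  rw [Finset.sum_mul]
  refine Fintype.sum_equiv (Equiv.mulRight (⟨x, hx⟩ : X)) _ _ fun y => ?_
  rw [← map_mul]
  rfl

theorem pr_mem (v : V) : pr ρ X v ∈ fixS ρ X := by
  intro x hx
  rw [← Module.End.mul_apply, rho_mul_pr ρ X hx]

theorem pr_of_mem {v : V} (hv : v ∈ fixS ρ X) : pr ρ X v = v := by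
  have hc : (Nat.card X : ℂ) ≠ 0 := Core.card_ne_zero_complex
  unfold pr Z
  rw [LinearMap.smul_apply, LinearMap.sum_apply, Finset.sum_congr rfl fun (x : X) _ => hv x x.2, Finset.sum_const,
    Finset.card_univ, ← Nat.card_eq_fintype_card, ← Nat.cast_smul_eq_nsmul ℂ, smul_smul, inv_mul_cancel₀ hc, one_smul]

theorem isProj_pr : LinearMap.IsProj (fixS ρ X) (pr ρ X) := ⟨pr_mem ρ X, fun _ hv => pr_of_mem ρ X hv⟩

theorem av_eq [FiniteDimensional ℂ V] :
    (Nat.card X : ℂ)⁻¹ * ∑ x : X, ρ.character x = finrank ℂ (fixS ρ X) := by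
  rw [← (isProj_pr ρ X).trace]
  unfold pr Z
  rw [map_smul, map_sum, smul_eq_mul]
  rfl

/-- **the Mackey term is at most the product of the numbers of fixed vectors** -/
theorem inner_le [FiniteDimensional ℂ V] {D : Type*} [Group D] [Fintype D] (f f' : D →* P) (X' : Subgroup P)
    [Fintype X'] (hX : ∀ x ∈ X, ∃ d, f d = x ∧ ρ (f' d) = 1) (hX' : ∀ x ∈ X', ∃ d, f' d = x ∧ ρ (f d) = 1) :
    ∃ m : ℕ, m ≤ finrank ℂ (fixS ρ X) * finrank ℂ (fixS ρ X') ∧
      classInner (ρ.character ∘ f) (ρ.character ∘ f') = m := by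
  have h1 := Core.classInner_character (ρ.comp f) (ρ.comp f')
  refine ⟨_, ?_, h1⟩
  have h2 : ∀ (T : IntertwiningMap (ρ.comp f') (ρ.comp f)) (v : V), T v ∈ fixS ρ X := by
    intro T v x hx
    obtain ⟨d, rfl, hd⟩ := hX x hx
    have : T (ρ (f' d) v) = ρ (f d) (T v) := LinearMap.congr_fun (T.isIntertwining' d) v
    rw [← this, hd]
    rfl
  let Φ : IntertwiningMap (ρ.comp f') (ρ.comp f) →ₗ[ℂ] (fixS ρ X' →ₗ[ℂ] fixS ρ X) :=
    { toFun := fun T => (T.toLinearMap.comp (fixS ρ X').subtype).codRestrict (fixS ρ X) fun v => h2 T v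
      map_add' := fun _ _ => rfl
      map_smul' := fun _ _ => rfl }
  have hΦ : Function.Injective Φ := by
    rw [injective_iff_map_eq_zero]
    intro T hT
    have h3 : ∀ v ∈ fixS ρ X', T v = 0 := fun v hv => congrArg Subtype.val (LinearMap.congr_fun hT ⟨v, hv⟩)
    have h4 : ∀ x ∈ X', ∀ v, T (ρ x v) = T v := by
      intro x hx v
      obtain ⟨d, rfl, hd⟩ := hX' x hx
      have : T (ρ (f' d) v) = ρ (f d) (T v) := LinearMap.congr_fun (T.isIntertwining' d) v
      rw [this, hd]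
      rfl
    have h5 : ∀ v, T (pr ρ X' v) = T v := by
      intro v
      have hc : (Nat.card X' : ℂ) ≠ 0 := Core.card_ne_zero_complex
      unfold pr Z
      rw [LinearMap.smul_apply, LinearMap.sum_apply, map_smul, map_sum, Finset.sum_congr rfl fun (x : X') _ => h4 x x.2 v,
        Finset.sum_const, Finset.card_univ, ← Nat.card_eq_fintype_card, ← Nat.cast_smul_eq_nsmul ℂ, smul_smul,
        inv_mul_cancel₀ hc, one_smul]
    apply IntertwiningMap.ext
    ext v
    change T v = 0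
    rw [← h5, h3 _ (pr_mem ρ X' v)]
  refine (LinearMap.finrank_le_finrank_of_injective hΦ).trans ?_
  rw [Module.finrank_linearMap, mul_comm]

/-- **at most two fixed vectors in the rank one situation** -/
theorem finrank_fix_le_two [FiniteDimensional ℂ V] [ρ.IsIrreducible] (B : Subgroup P) (w : P)
    (hcov : ∀ g : P, g ∈ B ∨ ∃ x ∈ X, ∃ b ∈ B, g = x * w * b)
    (hcomm : ∀ a ∈ B, ∀ b ∈ B, ∃ x ∈ X, ∃ k, ρ k = 1 ∧ a * b = b * a * x * k)
    (hnorm : ∀ b ∈ B, ∀ x ∈ X, ∃ x' ∈ X, ∃ k, ρ k = 1 ∧ x * b = b * x' * k) : finrank ℂ (fixS ρ X) ≤ 2 := by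
  classical
  by_cases h0 : fixS ρ X = ⊥
  · rw [h0, finrank_bot]
    exact Nat.zero_le _
  have hst : ∀ b ∈ B, ∀ v ∈ fixS ρ X, ρ b v ∈ fixS ρ X := by
    intro b hb v hv x hx
    obtain ⟨x', hx', k, hk, he⟩ := hnorm b hb x hx
    rw [← Module.End.mul_apply, ← map_mul, he, map_mul, map_mul, hk, mul_one, Module.End.mul_apply, hv x' hx']
  obtain ⟨v, hvW, hv0, hv⟩ := exists_common_eigenvector (fun b : B => ρ (b : P) * pr ρ X)
    (fun a b => by
      ext u
      change ρ a (pr ρ X (ρ b (pr ρ X u))) = ρ b (pr ρ X (ρ a (pr ρ X u)))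
      rw [pr_of_mem ρ X (hst b b.2 _ (pr_mem ρ X u)), pr_of_mem ρ X (hst a a.2 _ (pr_mem ρ X u))]
      obtain ⟨x, hx, k, hk, he⟩ := hcomm a a.2 b b.2
      have h1 : ρ (a * b : P) (pr ρ X u) = ρ (b * a : P) (pr ρ X u) := by
        rw [he, map_mul, map_mul, hk, mul_one, Module.End.mul_apply, pr_mem ρ X u x hx]
      rwa [map_mul, map_mul] at h1)
    (fixS ρ X) h0 (fun b u hu => by
      change ρ (b : P) (pr ρ X u) ∈ _
      exact hst b b.2 _ (pr_mem ρ X u))
  have hv' : ∀ b ∈ B, ∃ c : ℂ, ρ b v = c • v := by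
    intro b hb
    obtain ⟨c, hc⟩ := hv ⟨b, hb⟩
    refine ⟨c, ?_⟩
    change ρ b (pr ρ X v) = c • v at hc
    rwa [pr_of_mem ρ X hvW] at hc
  let S : Submodule ℂ V := Submodule.span ℂ {v, pr ρ X (ρ w v)}
  have hmem : ∀ g : P, pr ρ X (ρ g v) ∈ S := by
    intro g
    rcases hcov g with hg | ⟨x, hx, b, hb, rfl⟩
    · obtain ⟨c, hc⟩ := hv' g hg
      rw [hc, map_smul, pr_of_mem ρ X hvW]
      exact S.smul_mem _ (Submodule.subset_span (Set.mem_insert _ _))
    · obtain ⟨c, hc⟩ := hv' b hb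
      rw [map_mul, Module.End.mul_apply, hc, map_smul, map_smul, map_mul, Module.End.mul_apply,
        ← Module.End.mul_apply (pr ρ X), pr_mul_rho ρ X hx]
      exact S.smul_mem _ (Submodule.subset_span (Set.mem_insert_of_mem _ rfl))
  have htop : Submodule.span ℂ (Set.range fun g : P => ρ g v) = ⊤ := by
    apply eq_top_of_stable ρ
    · intro g u hu
      induction hu using Submodule.span_induction with
      | mem x hx =>
        obtain ⟨q, rfl⟩ := hx
        refine Submodule.subset_span ⟨g * q, ?_⟩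
        change ρ (g * q) v = ρ g (ρ q v)
        rw [map_mul, Module.End.mul_apply]
      | zero => rw [map_zero]; exact Submodule.zero_mem _
      | add x y _ _ hx hy => rw [map_add]; exact Submodule.add_mem _ hx hy
      | smul a x _ hx => rw [map_smul]; exact Submodule.smul_mem _ _ hx
    · intro h
      apply hv0
      have : v ∈ Submodule.span ℂ (Set.range fun g : P => ρ g v) := Submodule.subset_span ⟨1, by
        change ρ 1 v = v
        rw [map_one]; rfl⟩
      rw [h] at this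
      exact (Submodule.mem_bot ℂ).1 this
  have hle : fixS ρ X ≤ S := by
    intro u hu
    rw [← pr_of_mem ρ X hu]
    have h1 : Submodule.span ℂ (Set.range fun g : P => ρ g v) ≤ S.comap (pr ρ X) := by
      rw [Submodule.span_le]
      rintro _ ⟨g, rfl⟩
      exact hmem g
    rw [htop] at h1
    exact h1 (Submodule.mem_top (x := u))
  refine (Submodule.finrank_mono hle).trans ?_
  have h2 := finrank_span_le_card (R := ℂ) ({v, pr ρ X (ρ w v)} : Set V)
  refine h2.trans ?_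
  rw [Set.toFinset_insert, Set.toFinset_singleton]
  exact Finset.card_le_two

end fix

section chars

/-- restricting an irreducible character trivial on `V` to a group covering the quotient by `V` -/
theorem isIrr_comp_cover {P D : Type*} [Group P] [Group D] (f : D →* P) {n : ℕ} {ρ : Representation ℂ P (Fin n → ℂ)}
    (hρ : ρ.IsIrreducible) (hf : ∀ g, ∃ d, ρ (f d) = ρ g) : IsIrrCharacter D (ρ.character ∘ f) := by
  refine ⟨n, ρ.comp f, ?_, rfl⟩
  have hnt : Nontrivial (Subrepresentation (ρ.comp f)) := by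
    obtain ⟨a, b, hab⟩ := hρ.toNontrivial
    refine ⟨⟨a.toSubmodule, fun g v hv => a.apply_mem_toSubmodule (f g) hv⟩,
      ⟨b.toSubmodule, fun g v hv => b.apply_mem_toSubmodule (f g) hv⟩, fun h => hab ?_⟩
    apply Subrepresentation.toSubmodule_injective
    exact congrArg (Subrepresentation.toSubmodule (ρ := ρ.comp f)) h
  refine ⟨fun a => ?_⟩
  have key : ∀ (g : P) ⦃v : Fin n → ℂ⦄, v ∈ a.toSubmodule → ρ g v ∈ a.toSubmodule := by
    intro g v hv
    obtain ⟨h, hh⟩ := hf g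
    rw [← hh]
    exact a.apply_mem_toSubmodule h hv
  rcases hρ.eq_bot_or_eq_top ⟨a.toSubmodule, key⟩ with h | h
  · left
    apply Subrepresentation.toSubmodule_injective
    exact congrArg (Subrepresentation.toSubmodule (ρ := ρ)) h
  · right
    apply Subrepresentation.toSubmodule_injective
    exact congrArg (Subrepresentation.toSubmodule (ρ := ρ)) h

/-- `[ψ|X, 1] ≤ d` -/
structure DLe {P : Type*} [Group P] (ψ : P → ℂ) (X : Subgroup P) (d : ℕ) : Prop where
  out : ∀ [Fintype X], ∃ k : ℕ, k ≤ d ∧ ∑ x : X, ψ x = (Nat.card X : ℂ) * k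

theorem dLe_iff {P V : Type*} [Group P] [Finite P] [AddCommGroup V] [Module ℂ V] [FiniteDimensional ℂ V]
    (ρ : Representation ℂ P V) (X : Subgroup P) (d : ℕ) : DLe ρ.character X d ↔ finrank ℂ (fixS ρ X) ≤ d := by
  classical
  have hc : (Nat.card X : ℂ) ≠ 0 := Core.card_ne_zero_complex
  constructor
  · intro h
    have : Fintype X := Fintype.ofFinite X
    obtain ⟨k, hk, h1⟩ := h.out
    have h2 := av_eq ρ X
    rw [h1, inv_mul_cancel_left₀ hc] at h2
    have h3 : k = finrank ℂ (fixS ρ X) := by exact_mod_cast h2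
    rwa [← h3]
  · intro h
    refine ⟨fun {_} => ⟨_, h, ?_⟩⟩
    rw [← av_eq ρ X, mul_inv_cancel_left₀ hc]

theorem DLe.mono {P : Type*} [Group P] {ψ : P → ℂ} {X : Subgroup P} {d d' : ℕ} (h : DLe ψ X d) (hd : d ≤ d') :
    DLe ψ X d' := ⟨fun {_} => by
  obtain ⟨k, hk, h1⟩ := h.out
  exact ⟨k, hk.trans hd, h1⟩⟩

theorem DLe.of_zero {P : Type*} [Group P] {ψ : P → ℂ} {X : Subgroup P} (h : ∀ [Fintype X], ∑ x : X, ψ x = 0) :
    DLe ψ X 0 := ⟨fun {_} => ⟨0, le_rfl, by rw [h]; simp only [_root_.Nat.card_eq_fintype_card, _root_.CharP.cast_eq_zero, _root_.MulZeroClass.mul_zero]⟩⟩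

/-- a larger group has fewer fixed vectors -/
theorem DLe.anti {P : Type*} [Group P] [Finite P] {ψ : P → ℂ} (hψ : IsCharacter P ψ) {X Y : Subgroup P} {d : ℕ}
    (h : DLe ψ X d) (hXY : X ≤ Y) : DLe ψ Y d := by
  obtain ⟨n, ρ, rfl⟩ := hψ
  rw [dLe_iff] at h ⊢
  refine (Submodule.finrank_mono ?_).trans h
  intro v hv x hx
  exact hv x (hXY hx)

/-- an irreducible character with a nonzero sum over a normal subgroup is trivial on it -/
theorem rho_eq_one {P : Type*} [Group P] [Finite P] {n : ℕ} {ρ : Representation ℂ P (Fin n → ℂ)}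
    (hρ : ρ.IsIrreducible) {X : Subgroup P} (hX : X.Normal) (h : fixS ρ X ≠ ⊥) {x : P} (hx : x ∈ X) : ρ x = 1 := by
  have h1 := eq_top_of_stable ρ (fixS ρ X) (fun g v hv x hx => by
    have h2 : ρ x * ρ g = ρ g * ρ (g⁻¹ * x * g) := by
      rw [← map_mul, ← map_mul]
      congr 1
      group
    have h3 : g⁻¹ * x * g ∈ X := by
      have := hX.conj_mem x hx g⁻¹
      rwa [inv_inv] at this
    have h4 := LinearMap.congr_fun h2 v
    rw [Module.End.mul_apply, Module.End.mul_apply, hv _ h3] at h4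
    exact h4) h
  ext1 i
  refine LinearMap.ext_ring ?_
  have h2 : LinearMap.single ℂ (fun _ : Fin n => ℂ) i 1 ∈ fixS ρ X := by rw [h1]; trivial
  exact h2 x hx

theorem rho_eq_one_of_char {P : Type*} [Group P] [Finite P] {n : ℕ} {ρ : Representation ℂ P (Fin n → ℂ)}
    (hρ : ρ.IsIrreducible) {X : Subgroup P} (hX : X.Normal) (h : ∀ x ∈ X, ρ.character x = ρ.character 1) {x : P}
    (hx : x ∈ X) : ρ x = 1 := by
  classical
  have : Fintype X := Fintype.ofFinite X
  have hc : (Nat.card X : ℂ) ≠ 0 := Core.card_ne_zero_complex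
  refine rho_eq_one hρ hX (fun h0 => ?_) hx
  have h1 := av_eq ρ X
  rw [Finset.sum_congr rfl fun (x : X) _ => h x x.2, Finset.sum_const, Finset.card_univ, ← Nat.card_eq_fintype_card,
    nsmul_eq_mul, inv_mul_cancel_left₀ hc, h0, finrank_bot, Nat.cast_zero] at h1
  exact Core.isIrr_apply_one_ne_zero (⟨n, ρ, hρ, rfl⟩ : IsIrrCharacter P ρ.character) h1

/-- **at most two fixed vectors in the rank one situation** -/
theorem dLe_two {P : Type*} [Group P] [Finite P] {ψ : P → ℂ} (hψ : IsIrrCharacter P ψ) {V : Subgroup P}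
    (hV : V.Normal) (hψV : ∀ v ∈ V, ψ v = ψ 1) (B X : Subgroup P) (w : P)
    (hcov : ∀ g : P, g ∈ B ∨ ∃ x ∈ X, ∃ b ∈ B, g = x * w * b)
    (hcomm : ∀ a ∈ B, ∀ b ∈ B, ∃ x ∈ X, ∃ k ∈ V, a * b = b * a * x * k)
    (hnorm : ∀ b ∈ B, ∀ x ∈ X, ∃ x' ∈ X, ∃ k ∈ V, x * b = b * x' * k) : DLe ψ X 2 := by
  classical
  have : Fintype X := Fintype.ofFinite X
  obtain ⟨n, ρ, hρ, rfl⟩ := hψ
  rw [dLe_iff]
  have h1 : ∀ k ∈ V, ρ k = 1 := fun k hk => rho_eq_one_of_char hρ hV hψV hk
  exact finrank_fix_le_two ρ X B w hcov (fun a ha b hb => by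
    obtain ⟨x, hx, k, hk, he⟩ := hcomm a ha b hb
    exact ⟨x, hx, k, h1 k hk, he⟩) (fun b hb x hx => by
    obtain ⟨x', hx', k, hk, he⟩ := hnorm b hb x hx
    exact ⟨x', hx', k, h1 k hk, he⟩)

end chars

section mackey

variable {G : Type*} [Group G]

/-- the Mackey term at `y` is at most `m` -/
structure MLe (P : Subgroup G) (ψ : P → ℂ) (y : G) (m : ℕ) : Prop where
  out : ∀ [Fintype (dsub P y)], ∃ k : ℕ, k ≤ m ∧ classInner (ψ ∘ (dsub P y).subtype) (ψ ∘ dhom P y) = k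

/-- the elements of `P` which are mapped into `V` by `y⁻¹` -/
def xs (P V : Subgroup G) (y : G) : Subgroup P := (V.comap (MulAut.conj y⁻¹).toMonoidHom).subgroupOf P

theorem mem_xs {P V : Subgroup G} {y : G} {x : P} : x ∈ xs P V y ↔ y⁻¹ * (x : G) * y ∈ V := by
  unfold xs
  rw [Subgroup.mem_subgroupOf, Subgroup.mem_comap]
  simp only [_root_.map_inv, _root_.MulEquiv.toMonoidHom_eq_coe, _root_.MonoidHom.coe_coe, _root_.MulAut.inv_apply, _root_.MulAut.conj_symm_apply]

/-- the elements of `P` in `V` -/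
theorem normal_subgroupOf {P V : Subgroup G} (hV : ∀ g ∈ P, ∀ v ∈ V, g * v * g⁻¹ ∈ V) : (V.subgroupOf P).Normal := by
  refine ⟨fun v hv g => ?_⟩
  rw [Subgroup.mem_subgroupOf] at hv ⊢
  exact hV g g.2 v hv

/-- **the product bound** -/
theorem mLe_mul [Finite G] {P V : Subgroup G} (hVP : V ≤ P) (hV : ∀ g ∈ P, ∀ v ∈ V, g * v * g⁻¹ ∈ V) {ψ : P → ℂ}
    (hψ : IsIrrCharacter P ψ) (hψV : ∀ v : P, (v : G) ∈ V → ψ v = ψ 1) {y : G} {d d' : ℕ} (h : DLe ψ (xs P V y) d)
    (h' : DLe ψ (xs P V y⁻¹) d') : MLe P ψ y (d * d') := by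
  classical
  refine ⟨fun {_} => ?_⟩
  have := Fintype.ofFinite (xs P V y)
  have := Fintype.ofFinite (xs P V y⁻¹)
  obtain ⟨n, ρ, hρ, rfl⟩ := hψ
  rw [dLe_iff] at h h'
  have h1 : ∀ k : P, (k : G) ∈ V → ρ k = 1 := fun k hk =>
    rho_eq_one_of_char hρ (normal_subgroupOf hV) (fun v hv => hψV v hv) (x := k) hk
  obtain ⟨m, hm, he⟩ := inner_le ρ (xs P V y) (dsub P y).subtype (dhom P y) (xs P V y⁻¹)
    (fun x hx => ⟨⟨x, (mem_dsub P y x).2 (hVP (mem_xs.1 hx))⟩, rfl, h1 _ (mem_xs.1 hx)⟩)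
    (fun x hx => by
      have hx' := mem_xs.1 hx
      rw [inv_inv] at hx'
      have e : y⁻¹ * (y * (x : G) * y⁻¹) * y = x := by group
      refine ⟨⟨⟨y * x * y⁻¹, hVP hx'⟩, (mem_dsub P y _).2 ?_⟩, ?_, h1 _ hx'⟩
      · change y⁻¹ * (y * (x : G) * y⁻¹) * y ∈ P
        rw [e]; exact x.2
      · apply Subtype.ext
        exact e)
  exact ⟨m, hm.trans (Nat.mul_le_mul h h'), he⟩

/-- **the opposite case** -/
theorem mLe_one [Finite G] {P V : Subgroup G} (hV : ∀ g ∈ P, ∀ v ∈ V, g * v * g⁻¹ ∈ V) {ψ : P → ℂ}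
    (hψ : IsIrrCharacter P ψ) (hψV : ∀ v : P, (v : G) ∈ V → ψ v = ψ 1) {y : G}
    (h : ∀ g ∈ P, ∃ l ∈ P, y⁻¹ * l * y ∈ P ∧ l⁻¹ * g ∈ V) (h' : ∀ g ∈ P, ∃ l ∈ P, y * l * y⁻¹ ∈ P ∧ l⁻¹ * g ∈ V) :
    MLe P ψ y 1 := by
  classical
  refine ⟨fun {_} => ?_⟩
  obtain ⟨n, ρ, hρ, rfl⟩ := hψ
  have h1 : ∀ k : P, (k : G) ∈ V → ρ k = 1 := fun k hk =>
    rho_eq_one_of_char hρ (normal_subgroupOf hV) (fun v hv => hψV v hv) (x := k) hk
  have h2 : ∀ l g : P, (l : G)⁻¹ * g ∈ V → ρ l = ρ g := by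
    intro l g hlg
    have h3 := h1 (l⁻¹ * g) hlg
    have h4 : l * (l⁻¹ * g) = g := by group
    rw [← h4, map_mul, h3, mul_one]
  have a1 := isIrr_comp_cover (dsub P y).subtype hρ (fun g => by
    obtain ⟨l, hl, hl', hlg⟩ := h g g.2
    exact ⟨⟨⟨l, hl⟩, (mem_dsub P y _).2 hl'⟩, h2 _ _ hlg⟩)
  have a2 := isIrr_comp_cover (dhom P y) hρ (fun g => by
    obtain ⟨l, hl, hl', hlg⟩ := h' g g.2
    have e : y⁻¹ * (y * l * y⁻¹) * y = l := by group
    refine ⟨⟨⟨y * l * y⁻¹, hl'⟩, (mem_dsub P y _).2 (by rw [e]; exact hl)⟩, ?_⟩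
    have e2 : dhom P y ⟨⟨y * l * y⁻¹, hl'⟩, (mem_dsub P y _).2 (by rw [e]; exact hl)⟩ = ⟨l, hl⟩ := Subtype.ext e
    rw [e2]
    exact h2 _ _ hlg)
  rcases H619.Gow.inner_irr_mem a1 a2 with h3 | h3
  · exact ⟨0, by norm_num, by rw [h3]; simp⟩
  · exact ⟨1, le_rfl, by rw [h3]; simp⟩

open scoped Classical in
theorem sum_dcoset [Fintype G] (P : Subgroup G) [Fintype P] {ψ : P → ℂ} (hcl : IsClassFunction P ψ) (y : G)
    [Fintype (dsub P y)] :
    ∑ x ∈ Finset.univ.filter (fun x => ∃ a ∈ P, ∃ b ∈ P, x = a * y * b), twist P ψ ψ x =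
      (Nat.card P : ℂ) * Nat.card P * classInner (ψ ∘ (dsub P y).subtype) (ψ ∘ dhom P y) := by
  classical
  set D : Set G := {x | ∃ a ∈ P, ∃ b ∈ P, x = a * y * b} with hD
  have e0 : (Finset.univ.filter (fun x => ∃ a ∈ P, ∃ b ∈ P, x = a * y * b) : Finset G) =
      Finset.univ.filter (fun x => x ∈ D) := rfl
  set m := classInner (ψ ∘ (dsub P y).subtype) (ψ ∘ dhom P y) with hm
  have h2 : (Nat.card (dsub P y) : ℂ) * ∑ x ∈ Finset.univ.filter (fun x => x ∈ D), twist P ψ ψ x =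
      (Nat.card (dsub P y) : ℂ) * ((Nat.card P : ℂ) * Nat.card P * m) := by
    have h3 : ∑ ab : P × P, twist P ψ ψ ((ab.1 : G) * y * ab.2) = (Nat.card P : ℂ) * Nat.card P *
        ((Nat.card (dsub P y) : ℂ) * m) := by
      rw [Finset.sum_congr rfl fun ab _ => twist_mul P hcl hcl ab.1.2 ab.2.2 y, Finset.sum_const, Finset.card_univ,
        Fintype.card_prod, ← Nat.card_eq_fintype_card, nsmul_eq_mul, H619.Gow.twist_eq_inner, Nat.cast_mul]
    have h4 : ∑ ab : P × P, twist P ψ ψ ((ab.1 : G) * y * ab.2) =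
        ∑ x ∈ Finset.univ.filter (fun x => x ∈ D), ∑ ab : P × P,
          if (ab.1 : G) * y * ab.2 = x then twist P ψ ψ x else 0 := by
      rw [Finset.sum_comm]
      refine Finset.sum_congr rfl fun ab _ => ?_
      rw [Finset.sum_ite_eq, if_pos]
      rw [Finset.mem_filter]
      exact ⟨Finset.mem_univ _, ab.1, ab.1.2, ab.2, ab.2.2, rfl⟩
    have h5 : ∀ x ∈ Finset.univ.filter (fun x => x ∈ D), (∑ ab : P × P,
          if (ab.1 : G) * y * ab.2 = x then twist P ψ ψ x else 0) =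
        (Nat.card (dsub P y) : ℂ) * twist P ψ ψ x := by
      intro x hx
      obtain ⟨a, ha, b, hb, rfl⟩ := (Finset.mem_filter.1 hx).2
      rw [← Finset.sum_filter, Finset.sum_const, H619.Gow.card_fiber P y ha hb, nsmul_eq_mul]
    rw [Finset.mul_sum, ← Finset.sum_congr rfl h5, ← h4, h3]
    ring
  rw [e0]
  exact mul_left_cancel₀ (card_ne_zero' (G := dsub P y)) h2

/-- **the norm of an induced character is at most one plus the sum of the Mackey terms** -/
theorem norm_le [Fintype G] (P : Subgroup G) {ψ : P → ℂ} (hψ : IsIrrCharacter P ψ) {ι : Type*} [Fintype ι]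
    (y : ι → G) (m : ι → ℕ) (h : ∀ x : G, x ∉ P → ∃ i, ∃ a ∈ P, ∃ b ∈ P, x = a * y i * b)
    (hm : ∀ i, MLe P ψ (y i) (m i)) :
    ∃ N : ℕ, N ≤ 1 + ∑ i, m i ∧ classInner (indFun P ψ) (indFun P ψ) = N := by
  classical
  have : Fintype P := Fintype.ofFinite P
  have hcl := Core.isIrr_isClassFunction hψ
  have hc := Core.isIrr_isCharacter hψ
  have hI := Cfsg.Agent.S0148.result P ψ hc
  obtain ⟨N, hN⟩ := Core.classInner_isNat hI hI
  refine ⟨N, ?_, hN⟩
  choose t ht using fun x => twist_eq_nat P hc hc x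
  have hk : ∀ i, ∃ k : ℕ, k ≤ m i ∧ ∀ [Fintype (dsub P (y i))],
      classInner (ψ ∘ (dsub P (y i)).subtype) (ψ ∘ dhom P (y i)) = k := by
    intro i
    have := Fintype.ofFinite (dsub P (y i))
    obtain ⟨k, hk, he⟩ := (hm i).out
    refine ⟨k, hk, fun {_} => ?_⟩
    convert he
  choose k hk1 hk2 using hk
  have hP : 0 < Nat.card P := Nat.card_pos
  have h1 : ∑ x : G, t x = Nat.card P * Nat.card P * N := by
    have h2 := classInner_indFun_indFun P ψ ψ
    rw [hN, Finset.sum_congr rfl fun x _ => ht x] at h2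
    have h3 : (Nat.card P : ℂ) ≠ 0 := card_ne_zero'
    field_simp at h2
    have h4 : ((Nat.card P * Nat.card P * N : ℕ) : ℂ) = ((∑ x : G, t x : ℕ) : ℂ) := by
      push_cast
      linear_combination h2
    exact_mod_cast h4.symm
  have h2 : ∑ x ∈ Finset.univ.filter (fun x => x ∈ P), t x = Nat.card P * Nat.card P := by
    have h3 : ∀ x ∈ Finset.univ.filter (fun x => x ∈ P), t x = Nat.card P := by
      intro x hx
      have h4 := twist_of_mem P ψ ψ hcl x (Finset.mem_filter.1 hx).2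
      rw [Core.classInner_irr_self hψ, mul_one, ht] at h4
      exact_mod_cast h4
    rw [Finset.sum_congr rfl h3, Finset.sum_const, smul_eq_mul]
    congr 1
    rw [← Fintype.card_subtype, ← Nat.card_eq_fintype_card]
  have h3 : ∀ i, ∑ x ∈ Finset.univ.filter (fun x => ∃ a ∈ P, ∃ b ∈ P, x = a * y i * b), t x =
      Nat.card P * Nat.card P * k i := by
    intro i
    have := Fintype.ofFinite (dsub P (y i))
    have h4 := sum_dcoset P hcl (y i)
    rw [hk2, Finset.sum_congr rfl fun x _ => ht x] at h4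
    exact_mod_cast h4
  have h4 : ∑ x ∈ Finset.univ.filter (fun x => x ∉ P), t x ≤
      ∑ i, ∑ x ∈ Finset.univ.filter (fun x => ∃ a ∈ P, ∃ b ∈ P, x = a * y i * b), t x := by
    have h5 : ∀ i, ∑ x ∈ Finset.univ.filter (fun x => ∃ a ∈ P, ∃ b ∈ P, x = a * y i * b), t x =
        ∑ x : G, if (∃ a ∈ P, ∃ b ∈ P, x = a * y i * b) then t x else 0 := fun i => Finset.sum_filter _ _
    rw [Finset.sum_congr rfl fun i _ => h5 i, Finset.sum_comm]
    refine (Finset.sum_le_sum fun x hx => ?_).trans (Finset.sum_le_sum_of_subset (Finset.filter_subset _ _))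
    obtain ⟨i, hi⟩ := h x (Finset.mem_filter.1 hx).2
    have h6 := Finset.single_le_sum (f := fun i => if (∃ a ∈ P, ∃ b ∈ P, x = a * y i * b) then t x else 0)
      (fun i _ => Nat.zero_le _) (Finset.mem_univ i)
    rwa [if_pos hi] at h6
  have h5 := Finset.sum_filter_add_sum_filter_not Finset.univ (fun x => x ∈ P) t
  rw [h1, h2] at h5
  rw [Finset.sum_congr rfl fun i _ => h3 i, ← Finset.mul_sum] at h4
  have h6 : Nat.card P * Nat.card P * N ≤ Nat.card P * Nat.card P * (1 + ∑ i, k i) := by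
    rw [← h5, mul_add, mul_one]
    exact Nat.add_le_add_left h4 _
  have h7 := Nat.le_of_mul_le_mul_left h6 (Nat.mul_pos hP hP)
  exact h7.trans (Nat.add_le_add_left (Finset.sum_le_sum fun i _ => hk1 i) 1)

/-- **a family agreeing on `P` with vectors fixed by `V`** -/
theorem card_le [Fintype G] {P V : Subgroup G} (hVP : V ≤ P) (hV : ∀ g ∈ P, ∀ v ∈ V, g * v * g⁻¹ ∈ V)
    {ι : Type*} [Fintype ι] (χ : ι → G → ℂ) (hχ : ∀ i, IsIrrCharacter G (χ i)) (hinj : Function.Injective χ)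
    (hres : ∀ i j, ∀ g ∈ P, χ i g = χ j g) [Fintype V] (i₀ : ι) (h : ∑ v : V, χ i₀ v ≠ 0) :
    ∃ ψ : P → ℂ, IsIrrCharacter P ψ ∧ (∀ v : P, (v : G) ∈ V → ψ v = ψ 1) ∧
      ∀ N : ℕ, classInner (indFun P ψ) (indFun P ψ) = N → Fintype.card ι ≤ N ∧
        (Fintype.card ι = N → indFun P ψ = ∑ i, χ i) := by
  classical
  have : Fintype P := Fintype.ofFinite P
  have : Fintype (V.subgroupOf P) := Fintype.ofFinite _
  have hc₀ : IsCharacter P (χ i₀ ∘ P.subtype) := Core.isCharacter_comp _ (Core.isIrr_isCharacter (hχ i₀))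
  have : Finite (IrrCharacter P) := Core.finite_irr
  let _ : Fintype (IrrCharacter P) := Fintype.ofFinite _
  obtain ⟨m, hm⟩ := Core.isCharacter_iff.1 hc₀
  have e1 : ∑ v : V.subgroupOf P, χ i₀ ((v : P) : G) = ∑ v : V, χ i₀ v := by
    refine Fintype.sum_equiv (Subgroup.subgroupOfEquivOfLe hVP).toEquiv _ _ fun v => ?_
    rfl
  have e2 : ∑ v : V.subgroupOf P, χ i₀ ((v : P) : G) =
      ∑ ψ : IrrCharacter P, (m ψ : ℂ) * ∑ v : V.subgroupOf P, (ψ : P → ℂ) v := by
    have e3 : ∀ v : V.subgroupOf P, χ i₀ ((v : P) : G) = ∑ ψ : IrrCharacter P, (m ψ : ℂ) * (ψ : P → ℂ) v := by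
      intro v
      have := congrFun hm (v : P)
      rw [Finset.sum_apply] at this
      refine this.trans (Finset.sum_congr rfl fun ψ _ => ?_)
      rw [Pi.smul_apply, nsmul_eq_mul]
    rw [Finset.sum_congr rfl fun v _ => e3 v, Finset.sum_comm]
    exact Finset.sum_congr rfl fun ψ _ => (Finset.mul_sum _ _ _).symm
  obtain ⟨ψ, hψ0⟩ : ∃ ψ : IrrCharacter P, (m ψ : ℂ) * ∑ v : V.subgroupOf P, (ψ : P → ℂ) v ≠ 0 := by
    by_contra hcon
    push Not at hcon
    apply h
    rw [← e1, e2, Finset.sum_eq_zero fun ψ _ => hcon ψ]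
  have hm0 : m ψ ≠ 0 := by
    intro h0
    apply hψ0
    rw [h0, Nat.cast_zero, zero_mul]
  have hs0 : ∑ v : V.subgroupOf P, (ψ : P → ℂ) v ≠ 0 := right_ne_zero_of_mul hψ0
  have hmi : ∀ i, classInner (χ i ∘ P.subtype) (ψ : P → ℂ) = m ψ := by
    intro i
    have e4 : χ i ∘ P.subtype = χ i₀ ∘ P.subtype := by
      funext g
      exact hres i i₀ g g.2
    rw [e4, hm]
    exact Core.classInner_sum_nsmul_irr m ψ
  refine ⟨ψ, ψ.2, ?_, fun N hN => ?_⟩
  · obtain ⟨n, ρ, hρ, hρψ⟩ := ψ.2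
    intro v hv
    have h1 : ρ v = 1 := by
      refine rho_eq_one hρ (normal_subgroupOf (P := P) hV) (fun h0 => hs0 ?_) (x := v) hv
      have h2 := av_eq ρ (V.subgroupOf P)
      rw [h0, finrank_bot, Nat.cast_zero, hρψ] at h2
      rcases mul_eq_zero.1 h2 with h3 | h3
      · exact absurd h3 (inv_ne_zero Core.card_ne_zero_complex)
      · exact h3
    rw [← hρψ]
    change LinearMap.trace ℂ _ (ρ v) = LinearMap.trace ℂ _ (ρ 1)
    rw [h1, map_one ρ]
  · have hI := Cfsg.Agent.S0148.result P _ (Core.isIrr_isCharacter ψ.2)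
    have hIm : ∀ i, classInner (indFun P (ψ : P → ℂ)) (χ i) = m ψ := by
      intro i
      have h1 : classInner (indFun P (ψ : P → ℂ)) (χ i) = classInner (ψ : P → ℂ) (χ i ∘ P.subtype) :=
        classInner_indFun P _ _ (Core.isIrr_isClassFunction (hχ i))
      rw [h1, ← Core.classInner_conj_symm, hmi, Complex.conj_natCast]
    have hgen : IsGeneralizedCharacter G (indFun P (ψ : P → ℂ)) :=
      ⟨_, 0, hI, Core.isCharacter_zero, by rw [sub_zero]⟩
    obtain ⟨a, ha, ha'⟩ := H431.ExcChar.bessel hgen (n := N) (by rw [hN]; simp) χ hχ hinj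
    have ha1 : ∀ i, a i = m ψ := by
      intro i
      have := ha i
      rw [hIm] at this
      exact_mod_cast this.symm
    have hpos : 1 ≤ m ψ := Nat.one_le_iff_ne_zero.2 hm0
    have hsum : Fintype.card ι * m ψ ^ 2 ≤ N := by
      rw [Finset.sum_congr rfl fun i _ => by rw [ha1 i], Finset.sum_const, Finset.card_univ] at ha'
      rw [nsmul_eq_mul] at ha'
      exact_mod_cast ha'
    refine ⟨(Nat.le_mul_of_pos_right _ (by positivity)).trans hsum, fun hcard => ?_⟩
    have hm1 : m ψ = 1 := by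
      have hcp : 0 < Fintype.card ι := Fintype.card_pos_iff.2 ⟨i₀⟩
      rw [hcard] at hsum hcp
      by_contra hne
      have h2 : 2 ≤ m ψ := by omega
      have h3 : 4 ≤ m ψ ^ 2 := by nlinarith only [h2]
      nlinarith only [hsum, hcp, h3]
    have h0 : classInner (indFun P (ψ : P → ℂ) - ∑ i, χ i) (indFun P (ψ : P → ℂ) - ∑ i, χ i) = 0 := by
      have b1 : classInner (indFun P (ψ : P → ℂ)) (∑ i, χ i) = Fintype.card ι := by
        rw [Core.classInner_sum_right, Finset.sum_congr rfl fun i _ => hIm i, hm1, Finset.sum_const, Finset.card_univ]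
        simp only [_root_.Nat.cast_one, _root_.nsmul_eq_mul, _root_.mul_one]
      have b2 : classInner (∑ i, χ i) (indFun P (ψ : P → ℂ)) = Fintype.card ι := by
        rw [← Core.classInner_conj_symm, b1, Complex.conj_natCast]
      have b3 : classInner (∑ i, χ i) (∑ i, χ i) = Fintype.card ι := by
        rw [Core.classInner_sum_right, Finset.sum_congr rfl (g := fun _ => (1 : ℂ)), Finset.sum_const, Finset.card_univ]
        · simp only [_root_.nsmul_eq_mul, _root_.mul_one]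
        · intro i _
          rw [Core.classInner_sum_left, Finset.sum_eq_single i]
          · exact Core.classInner_irr_self (hχ i)
          · intro j _ hj
            exact Core.classInner_irr_ne (hχ j) (hχ i) fun he => hj (hinj he)
          · intro hi
            exact absurd (Finset.mem_univ i) hi
      rw [Core.classInner_sub_left, Core.classInner_sub_right, Core.classInner_sub_right, hN, b1, b2, b3, hcard]
      ring
    exact sub_eq_zero.1 (Core.classInner_self_eq_zero h0)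

/-- **Large families agreeing on `P` are cuspidal.** -/
theorem sum_eq_zero [Fintype G] {P V : Subgroup G} (hVP : V ≤ P) (hV : ∀ g ∈ P, ∀ v ∈ V, g * v * g⁻¹ ∈ V)
    {ι : Type*} [Fintype ι] {χ : ι → G → ℂ} (hχ : ∀ i, IsIrrCharacter G (χ i)) (hinj : Function.Injective χ)
    (hres : ∀ i j, ∀ g ∈ P, χ i g = χ j g) {κ : Type*} [Fintype κ] (y : κ → G) (m : κ → ℕ)
    (hcov : ∀ x : G, x ∉ P → ∃ k, ∃ a ∈ P, ∃ b ∈ P, x = a * y k * b)
    (hm : ∀ ψ : P → ℂ, IsIrrCharacter P ψ → (∀ v : P, (v : G) ∈ V → ψ v = ψ 1) → ∀ k, MLe P ψ (y k) (m k))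
    (hcard : 1 + ∑ k, m k < Fintype.card ι) [Fintype V] (i : ι) : ∑ v : V, χ i v = 0 := by
  by_contra h
  obtain ⟨ψ, hψ, hψV, h1⟩ := card_le hVP hV χ hχ hinj hres i h
  obtain ⟨N, hN, hN'⟩ := norm_le P hψ y m hcov (hm ψ hψ hψV)
  have := (h1 N hN').1
  omega

/-- **Defect zero.** -/
theorem defect_zero [Finite G] {p : ℕ} [Fact p.Prime] {χ : G → ℂ} (hχ : IsIrrCharacter G χ)
    (h : ∀ g : G, orderOf g = p → ∃ V : Subgroup G, (∀ [Fintype V], ∑ v : V, χ v = 0) ∧
      (∀ u, u ∈ V ↔ g * u * g⁻¹ ∈ V) ∧ ∀ u ∈ V, g * u = u * g → u = 1) :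
    (charDegree χ).factorization p = (Nat.card G).factorization p := by
  classical
  refine Cfsg.Agent.S0928.result p ⟨χ, hχ⟩ fun g hg => ?_
  obtain ⟨V, h1, h2, h3⟩ := h g hg
  have : Fintype V := Fintype.ofFinite V
  obtain ⟨n, ρ, hρ, rfl⟩ := hχ
  exact H710.Cuspidal.zero_of_regular ρ V h1 h2 h3

theorem dvd_of_defect_zero [Finite G] {p : ℕ} [Fact p.Prime] {χ : G → ℂ} (hχ : IsIrrCharacter G χ)
    (h : (charDegree χ).factorization p = (Nat.card G).factorization p) {k : ℕ} (hk : p ^ k ∣ Nat.card G) :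
    p ^ k ∣ charDegree χ := by
  have h0 : charDegree χ ≠ 0 := by
    intro h0
    have := Cfsg.Agent.Blocks.Basic.irr_one_eq_charDegree hχ
    rw [h0, Nat.cast_zero] at this
    exact Core.isIrr_apply_one_ne_zero hχ this
  rw [Nat.Prime.pow_dvd_iff_le_factorization Fact.out h0, h]
  exact (Nat.Prime.pow_dvd_iff_le_factorization Fact.out Nat.card_pos.ne').1 hk

end mackey

end Cfsg.Agent.H113.Cusp.Tool
end

-- part: H113/Cusp/Reg
section
prune_inst 0x1040214547620000401c000460201cd3fa000002004b00002020090205882c00e0020661aca02414101208440034006002100020004000000400000001180180000000008008000840000000010001000000000000000000000080000000000000c010000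
set_option linter.all false
open scoped Cfsg.Agent.FastGrp

-- part: H113/Cusp/Flag
section
/-!
# Relative positions of totally singular subspaces in Witt index two (helper113)

* `exists_unip`, `rad_trans` : the radical of the stabiliser of `W₀` is transitive on the opposite subspaces;
* `dle_point`, `dle_line` : at most two fixed vectors for `rad W' ∩ P`, `W'` adjacent to `W₀`.
-/

set_option autoImplicit false
set_option linter.unusedSectionVars false

open scoped ComplexConjugate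
open Cfsg

namespace Cfsg.Agent.H113.Cusp.Flag

open Module Cfsg.Agent.H53.HC Cfsg.Agent.H477.HC Cfsg.Agent.H477.HC.CForm Cfsg.Agent.H113.Two.HcOne
  Cfsg.Agent.H113.Cusp.Tool

universe u v w

variable {K : Type u} [Field K] {V : Type v} [AddCommGroup V] [Module K V] {F : CForm K V}

section unip

variable {k : ℕ} {e f : Fin k → V}

theorem fe_of (hef : ∀ i l, F.B (e i) (f l) = if i = l then 1 else 0) (i l : Fin k) :
    F.B (f i) (e l) = if i = l then F.ε else 0 := by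
  rw [F.B_symm, hef]
  by_cases hij : i = l
  · rw [if_pos hij, if_pos hij.symm, map_one, mul_one]
  · rw [if_neg hij, if_neg (Ne.symm hij), map_zero, mul_zero]

/-- **the unipotent element carrying `f` to the opposite frame `y`** (helper477's `Frm.exists_unip` without complement) -/
theorem exists_unip [FiniteDimensional K V] (hee : ∀ i l, F.B (e i) (e l) = 0) (hff : ∀ i l, F.B (f i) (f l) = 0)
    (hef : ∀ i l, F.B (e i) (f l) = if i = l then 1 else 0) (hQe : ∀ i, F.Q (e i) = 0) (hQf : ∀ i, F.Q (f i) = 0)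
    {y : Fin k → V}
    (hey : ∀ i l, F.B (e i) (y l) = if i = l then 1 else 0) (hyy : ∀ i l, F.B (y i) (y l) = 0)
    (hQy : ∀ i, F.Q (y i) = 0) :
    ∃ u : F.iso, (∀ i, (u : V ≃ₗ[K] V) (e i) = e i) ∧ (∀ i, (u : V ≃ₗ[K] V) (f i) = y i) ∧
      ∀ v, (∀ i, F.B v (e i) = 0) → (u : V ≃ₗ[K] V) v = v - ∑ i, F.B v (y i - f i) • e i := by
  have hε := F.ε_ne
  have hfe := fe_of hef
  let P : V →ₗ[K] V := cmb f F e F.ε⁻¹
  let Y : V →ₗ[K] V := cmb y F e F.ε⁻¹
  let r : V →ₗ[K] V := LinearMap.id - P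
  let H : V →ₗ[K] V := (cmb e F (fun i => y i - f i) 1).comp r
  have hP : ∀ v, P v = ∑ i, (F.ε⁻¹ * F.B v (e i)) • f i := cmb_apply _ _ _
  have hY : ∀ v, Y v = ∑ i, (F.ε⁻¹ * F.B v (e i)) • y i := cmb_apply _ _ _
  have hH : ∀ v, H v = ∑ i, (1 * F.B (r v) (y i - f i)) • e i := fun v => cmb_apply _ _ _ _
  have hr : ∀ v, r v = v - P v := fun v => rfl
  have tsf := F.TS_span hff hQf
  have tse := F.TS_span hee hQe
  have tsy := F.TS_span hyy hQy
  have Pm : ∀ v, P v ∈ Submodule.span K (Set.range f) := fun v => cmb_mem _ _ _ _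
  have Ym : ∀ v, Y v ∈ Submodule.span K (Set.range y) := fun v => cmb_mem _ _ _ _
  have Hm : ∀ v, H v ∈ Submodule.span K (Set.range e) := fun v => cmb_mem _ _ _ _
  have re : ∀ v l, F.B (r v) (e l) = 0 := by
    intro v l
    rw [hr, F.B_sub_left, hP, B_sum_left]
    simp only [hfe]
    rw [sum_deltaε (fun i => F.ε⁻¹ * F.B v (e i)) F.ε l]
    field_simp
    ring
  have rH : ∀ u v, F.B (r u) (H v) = 0 := by
    intro u v
    rw [hH, B_sum_right]
    exact Finset.sum_eq_zero fun i _ => by rw [re, mul_zero]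
  have Hy : ∀ u m, F.B (H u) (y m) = F.B (r u) (y m - f m) := by
    intro u m
    rw [hH, B_sum_left]
    simp only [hey]
    rw [sum_delta (fun i => 1 * F.B (r u) (y i - f i)) m, one_mul]
  have key : ∀ u v, F.B (r u - H u) (Y v) = F.B (r u) (P v) := by
    intro u v
    rw [hY, hP, B_sum_right, B_sum_right]
    refine Finset.sum_congr rfl fun i _ => ?_
    rw [F.B_sub_left, Hy, F.B_sub_right]
    ring
  have key' : ∀ u v, F.B (Y v) (r u - H u) = F.B (P v) (r u) := by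
    intro u v
    rw [F.B_symm, key, F.B_symm (P v)]
  let g : V →ₗ[K] V := r - H + Y
  have hg : ∀ v, g v = (r v - H v) + Y v := fun v => rfl
  have hv : ∀ v, v = r v + P v := fun v => by rw [hr]; abel
  have HH : ∀ u v, F.B (H u) (H v) = 0 := fun u v => tse.2 _ (Hm u) _ (Hm v)
  have YY : ∀ u v, F.B (Y u) (Y v) = 0 := fun u v => tsy.2 _ (Ym u) _ (Ym v)
  have PP : ∀ u v, F.B (P u) (P v) = 0 := fun u v => tsf.2 _ (Pm u) _ (Pm v)
  have Hr : ∀ u v, F.B (H u) (r v) = 0 := fun u v => F.B_eq_zero (rH v u)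
  obtain ⟨u, hu⟩ := F.exists_iso g (fun x z => by
    rw [hg, hg, F.B_add_left, F.B_add_right, F.B_add_right, key, key', YY, F.B_sub_left, F.B_sub_right, F.B_sub_right,
      HH, rH, Hr]
    conv_rhs => rw [hv x, hv z]
    rw [F.B_add_left, F.B_add_right, F.B_add_right, PP]
    ring) (fun v => by
    rw [hg, F.Q_add, key, tsy.1 _ (Ym v), sub_eq_add_neg, F.Q_add, F.B_neg_right, rH, neg_zero, F.T_zero]
    have : -H v = (-1 : K) • H v := by rw [neg_one_smul]
    rw [this, F.Q_smul, tse.1 _ (Hm v)]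
    conv_rhs => rw [hv v, F.Q_add, tsf.1 _ (Pm v)]
    ring)
  have P0 : ∀ v, (∀ i, F.B v (e i) = 0) → P v = 0 := by
    intro v hv
    rw [hP]
    exact Finset.sum_eq_zero fun i _ => by rw [hv, mul_zero, zero_smul]
  have Y0 : ∀ v, (∀ i, F.B v (e i) = 0) → Y v = 0 := by
    intro v hv
    rw [hY]
    exact Finset.sum_eq_zero fun i _ => by rw [hv, mul_zero, zero_smul]
  have u1 : ∀ v, (∀ i, F.B v (e i) = 0) → (u : V ≃ₗ[K] V) v = v - ∑ i, F.B v (y i - f i) • e i := by
    intro v hv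
    rw [hu, hg, Y0 v hv, hH, hr, P0 v hv, sub_zero, add_zero]
    congr 1
    exact Finset.sum_congr rfl fun i _ => by rw [one_mul]
  refine ⟨u, fun i => ?_, fun l => ?_, u1⟩
  · rw [u1 _ (hee i), Finset.sum_eq_zero, sub_zero]
    intro l _
    rw [F.B_sub_right, hey, hef, sub_self, zero_smul]
  · have rl : r (f l) = 0 := by
      rw [hr, hP, Finset.sum_eq_single l]
      · rw [hfe, if_pos rfl, inv_mul_cancel₀ hε, one_smul, sub_self]
      · intro i _ hi
        rw [hfe, if_neg (Ne.symm hi), mul_zero, zero_smul]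
      · intro h; exact absurd (Finset.mem_univ _) h
    rw [hu, hg, hH, rl, Finset.sum_eq_zero (fun i _ => by rw [F.B_zero_left, mul_zero, zero_smul]), sub_zero, zero_add,
      hY, Finset.sum_eq_single l]
    · rw [hfe, if_pos rfl, inv_mul_cancel₀ hε, one_smul]
    · intro i _ hi
      rw [hfe, if_neg (Ne.symm hi), mul_zero, zero_smul]
    · intro h; exact absurd (Finset.mem_univ _) h

/-- `k = 1` -/
theorem exists_unip_one [FiniteDimensional K V] {e f y : V} (he : F.Sing e) (hf : F.Sing f) (hef : F.B e f = 1)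
    (hy : F.Sing y) (hey : F.B e y = 1) :
    ∃ u : F.iso, (u : V ≃ₗ[K] V) e = e ∧ (u : V ≃ₗ[K] V) f = y ∧
      ∀ v, F.B v e = 0 → (u : V ≃ₗ[K] V) v = v - F.B v (y - f) • e := by
  obtain ⟨u, h1, h2, h3⟩ := exists_unip (F := F) (k := 1) (e := fun _ => e) (f := fun _ => f) (y := fun _ => y)
    (fun _ _ => he.2) (fun _ _ => hf.2) (fun i l => by rw [hef, if_pos (Subsingleton.elim i l)]) (fun _ => he.1)
    (fun _ => hf.1) (fun i l => by rw [hey, if_pos (Subsingleton.elim i l)]) (fun _ _ => hy.2) (fun _ => hy.1)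
  refine ⟨u, h1 0, h2 0, fun v hv => ?_⟩
  rw [h3 v fun _ => hv, Fin.sum_univ_one]

end unip

/-- the stabiliser of a subspace -/
abbrev St (F : CForm K V) (W : Submodule K V) : Subgroup F.iso := stabW F.iso.subtype W

variable [FiniteDimensional K V]

theorem mem_St {W : Submodule K V} {g : F.iso} : g ∈ St F W ↔ ∀ w ∈ W, (g : V ≃ₗ[K] V) w ∈ W := by
  constructor
  · intro h w hw
    have h1 : W.map (F.iso.subtype g : V →ₗ[K] V) = W := h
    have : F.iso.subtype g w ∈ W.map (F.iso.subtype g : V →ₗ[K] V) := ⟨w, hw, rfl⟩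
    rwa [h1] at this
  · intro h
    exact map_eq_of_le F.iso.subtype h

theorem inv_ap (g : F.iso) (v : V) : ((g⁻¹ : F.iso) : V ≃ₗ[K] V) ((g : V ≃ₗ[K] V) v) = v :=
  (g : V ≃ₗ[K] V).symm_apply_apply v

theorem ap_inv (g : F.iso) (v : V) : (g : V ≃ₗ[K] V) (((g⁻¹ : F.iso) : V ≃ₗ[K] V) v) = v :=
  (g : V ≃ₗ[K] V).apply_symm_apply v

theorem mul_ap (g h : F.iso) (v : V) : ((g * h : F.iso) : V ≃ₗ[K] V) v = (g : V ≃ₗ[K] V) ((h : V ≃ₗ[K] V) v) := rfl

theorem mem_perp_ap {W : Submodule K V} {g : F.iso} (hg : g ∈ St F W) {v : V} (hv : v ∈ F.perp W) :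
    (g : V ≃ₗ[K] V) v ∈ F.perp W := by
  intro w hw
  have h1 : ((g⁻¹ : F.iso) : V ≃ₗ[K] V) w ∈ W := mem_St.1 (Subgroup.inv_mem _ hg) w hw
  rw [← ap_inv g w, F.iso_B]
  exact hv _ h1

theorem mem_rad {W : Submodule K V} (hW : F.TS W) {g : F.iso} : g ∈ _root_.Cfsg.Agent.H113.Two.HcOne.rad F W ↔
    (∀ w ∈ W, (g : V ≃ₗ[K] V) w = w) ∧ ∀ v ∈ F.perp W, (g : V ≃ₗ[K] V) v - v ∈ W :=
  ⟨fun h => ⟨h.1, h.2.2⟩, fun h => ⟨h.1, F.mem_TT_of hW h.2⟩⟩

theorem rad_le {W : Submodule K V} : _root_.Cfsg.Agent.H113.Two.HcOne.rad F W ≤ St F W := fun _ hg => fixP_le hg.1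

theorem rad_conj {W : Submodule K V} (hW : F.TS W) {g : F.iso} (hg : g ∈ St F W) {u : F.iso} (hu : u ∈ _root_.Cfsg.Agent.H113.Two.HcOne.rad F W) :
    g * u * g⁻¹ ∈ _root_.Cfsg.Agent.H113.Two.HcOne.rad F W := by
  rw [mem_rad hW] at hu ⊢
  have hg' := Subgroup.inv_mem _ hg
  refine ⟨fun w hw => ?_, fun v hv => ?_⟩
  · rw [mul_ap, mul_ap, hu.1 _ (mem_St.1 hg' w hw), ap_inv]
  · have h1 := hu.2 _ (mem_perp_ap hg' hv)
    have h2 := mem_St.1 hg _ h1
    rw [map_sub, ap_inv] at h2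
    exact h2

/-- conjugation moves the radical -/
theorem mem_rad_map {W : Submodule K V} (hW : F.TS W) {g u : F.iso} :
    g⁻¹ * u * g ∈ _root_.Cfsg.Agent.H113.Two.HcOne.rad F W ↔ u ∈ _root_.Cfsg.Agent.H113.Two.HcOne.rad F (W.map (F.iso.subtype g : V →ₗ[K] V)) := by
  rw [mem_rad hW, mem_rad (W := W.map (F.iso.subtype g : V →ₗ[K] V)) (hW.map g)]
  constructor
  · rintro ⟨h1, h2⟩
    refine ⟨?_, fun v hv => ?_⟩
    · rintro _ ⟨w, hw, rfl⟩
      have := congrArg (fun x => (g : V ≃ₗ[K] V) x) (h1 w hw)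
      simp only [mul_ap, ap_inv] at this
      exact this
    · have hv' : ((g⁻¹ : F.iso) : V ≃ₗ[K] V) v ∈ F.perp W := by
        intro w hw
        rw [← F.iso_B g, ap_inv]
        exact hv _ ⟨w, hw, rfl⟩
      have := h2 _ hv'
      rw [mul_ap, mul_ap, ap_inv] at this
      refine ⟨_, this, ?_⟩
      change (g : V ≃ₗ[K] V) _ = _
      rw [map_sub, ap_inv, ap_inv]
  · rintro ⟨h1, h2⟩
    refine ⟨fun w hw => ?_, fun v hv => ?_⟩
    · rw [mul_ap, mul_ap]
      have : (u : V ≃ₗ[K] V) ((g : V ≃ₗ[K] V) w) = (g : V ≃ₗ[K] V) w := h1 _ ⟨w, hw, rfl⟩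
      rw [this, inv_ap]
    · have hv' : (g : V ≃ₗ[K] V) v ∈ F.perp (W.map (F.iso.subtype g : V →ₗ[K] V)) := by
        rintro _ ⟨w, hw, rfl⟩
        exact (F.iso_B g v w).trans (hv w hw)
      obtain ⟨w, hw, hw'⟩ := h2 _ hv'
      rw [mul_ap, mul_ap]
      have h3 : ((g⁻¹ : F.iso) : V ≃ₗ[K] V) ((u : V ≃ₗ[K] V) ((g : V ≃ₗ[K] V) v)) - v = w := by
        have h4 : (u : V ≃ₗ[K] V) ((g : V ≃ₗ[K] V) v) = (g : V ≃ₗ[K] V) w + (g : V ≃ₗ[K] V) v := by
          rw [show (g : V ≃ₗ[K] V) w = _ from hw']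
          abel
        rw [h4, map_add, inv_ap, inv_ap]
        abel
      rw [h3]; exact hw

/-- **the radical is transitive on the opposite subspaces** -/
theorem rad_trans {k : ℕ} {W₀ W' W'' : Submodule K V} (hW₀ : W₀ ∈ F.Om k) (hW' : W' ∈ F.Om k) (hW'' : W'' ∈ F.Om k)
    (h' : W₀ ⊓ F.perp W' = ⊥) (h'' : W₀ ⊓ F.perp W'' = ⊥) :
    ∃ u ∈ _root_.Cfsg.Agent.H113.Two.HcOne.rad F W₀, W'.map (F.iso.subtype u : V →ₗ[K] V) = W'' := by
  classical
  let b : Basis (Fin k) K W₀ := finBasisOfFinrankEq K W₀ hW₀.2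
  have hb : ∀ i l, b.coord l (b i) = if i = l then 1 else 0 := by
    intro i l
    rw [Basis.coord_apply, Basis.repr_self, Finsupp.single_apply]
  have key : ∀ W₁ ∈ F.Om k, W₀ ⊓ F.perp W₁ = ⊥ → ∃ f : Fin k → V, (∀ i, f i ∈ W₁) ∧
      (∀ i l, F.B (b i) (f l) = if i = l then 1 else 0) ∧ Submodule.span K (Set.range f) = W₁ := by
    intro W₁ hW₁ h1
    have h2 : ∀ l, ∃ z ∈ W₁, ∀ w : W₀, b.coord l w = F.B w z := fun l =>
      F.exists_pair W₀ W₁ (b.coord l) fun w hw => by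
        have h3 : (w : V) ∈ W₀ ⊓ F.perp W₁ := ⟨w.2, hw⟩
        rw [h1] at h3
        have h4 : w = 0 := Subtype.ext ((Submodule.mem_bot K).1 h3)
        rw [h4, map_zero]
    choose f hf hf' using h2
    have h3 : ∀ i l, F.B (b i) (f l) = if i = l then 1 else 0 := fun i l => by rw [← hf', hb]
    refine ⟨f, hf, h3, ?_⟩
    have hli : LinearIndependent K f := by
      rw [Fintype.linearIndependent_iff]
      intro c hc i
      have h4 : F.B (b i) (∑ l, c l • f l) = F.σ (c i) := by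
        rw [B_sum_right, Finset.sum_eq_single i]
        · rw [h3, if_pos rfl, mul_one]
        · intro l _ hl
          rw [h3, if_neg (Ne.symm hl), mul_zero]
        · intro h; exact absurd (Finset.mem_univ _) h
      rw [hc, F.B_zero_right] at h4
      exact (map_eq_zero F.σ).1 h4.symm
    apply Submodule.eq_of_le_of_finrank_eq
    · rw [Submodule.span_le]
      rintro _ ⟨i, rfl⟩
      exact hf i
    · rw [finrank_span_eq_card hli, Fintype.card_fin, hW₁.2]
  obtain ⟨f, hf, hef, hsf⟩ := key W' hW' h'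
  obtain ⟨y, hy, hey, hsy⟩ := key W'' hW'' h''
  obtain ⟨u, h1, h2, h3⟩ := exists_unip (F := F) (e := fun i => (b i : V)) (f := f) (y := y)
    (fun i l => hW₀.1.2 _ (b i).2 _ (b l).2) (fun i l => hW'.1.2 _ (hf i) _ (hf l)) hef
    (fun i => hW₀.1.1 _ (b i).2) (fun i => hW'.1.1 _ (hf i)) hey (fun i l => hW''.1.2 _ (hy i) _ (hy l))
    (fun i => hW''.1.1 _ (hy i))
  refine ⟨u, (mem_rad hW₀.1).2 ⟨fun w hw => ?_, fun v hv => ?_⟩, ?_⟩
  · have h4 : w = ∑ i, b.repr ⟨w, hw⟩ i • (b i : V) := by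
      have := congrArg Subtype.val (b.sum_repr ⟨w, hw⟩)
      simp only [Submodule.coe_sum, Submodule.coe_smul] at this
      exact this.symm
    rw [h4, map_sum]
    exact Finset.sum_congr rfl fun i _ => by rw [map_smul, h1]
  · rw [h3 v fun i => hv _ (b i).2]
    have : v - ∑ i, F.B v (y i - f i) • (b i : V) - v = -∑ i, F.B v (y i - f i) • (b i : V) := by abel
    rw [this]
    exact W₀.neg_mem (W₀.sum_mem fun i _ => W₀.smul_mem _ (b i).2)
  · rw [← hsf, ← hsy, Submodule.map_span, ← Set.range_comp]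
    congr 2
    funext i
    exact h2 i

end Cfsg.Agent.H113.Cusp.Flag
end

-- part: H113/Cusp/Rel
section
/-!
# Flags in Witt index two: at most two fixed vectors for the radicals of adjacent parabolic subgroups (helper113)
-/

set_option autoImplicit false
set_option linter.unusedSectionVars false

open scoped ComplexConjugate
open Cfsg

namespace Cfsg.Agent.H113.Cusp.Rel

open Module Cfsg.Agent.H53.HC Cfsg.Agent.H477.HC Cfsg.Agent.H477.HC.CForm Cfsg.Agent.H113.Two.HcOne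
  Cfsg.Agent.H113.Cusp.Tool Cfsg.Agent.H113.Cusp.Flag

universe u v w

variable {K : Type u} [Field K] {V : Type v} [AddCommGroup V] [Module K V] {F : CForm K V} [FiniteDimensional K V]

/-- Witt index at most two and `L^⊥ / L` of dimension at most one -/
structure Rk2 (F : CForm K V) : Prop where
  le : ∀ W, F.TS W → finrank K W ≤ 2
  sc : ∀ L ∈ F.Om 2, ∀ g ∈ St F L, ∃ c : K, ∀ v ∈ F.perp L, (g : V ≃ₗ[K] V) v - c • v ∈ L

/-- the unipotent radical of the stabiliser of the flag `⟨e⟩ ≤ L` -/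
structure UU (F : CForm K V) (e : V) (L : Submodule K V) (u : F.iso) : Prop where
  h1 : (u : V ≃ₗ[K] V) e = e
  h2 : ∀ v ∈ L, ∃ c : K, (u : V ≃ₗ[K] V) v = v + c • e
  h3 : ∀ v ∈ F.perp L, (u : V ≃ₗ[K] V) v - v ∈ L

/-- the stabiliser of the flag -/
def BB (F : CForm K V) (e : V) (L : Submodule K V) : Subgroup F.iso := St F (K ∙ e) ⊓ St F L

theorem St_line {e : V} {g : F.iso} : g ∈ St F (K ∙ e) ↔ ∃ c : K, (g : V ≃ₗ[K] V) e = c • e := by
  rw [mem_St]
  constructor
  · intro h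
    obtain ⟨c, hc⟩ := Submodule.mem_span_singleton.1 (h e (Submodule.mem_span_singleton_self e))
    exact ⟨c, hc.symm⟩
  · rintro ⟨c, hc⟩ w hw
    obtain ⟨t, rfl⟩ := Submodule.mem_span_singleton.1 hw
    rw [map_smul, hc, smul_smul]
    exact Submodule.mem_span_singleton.2 ⟨_, rfl⟩

theorem span_two {L : Submodule K V} (hL : finrank K L = 2) {e f : V} (he : e ∈ L) (hf : f ∈ L) (he0 : e ≠ 0)
    (hef : ∀ c : K, f ≠ c • e) {v : V} (hv : v ∈ L) : ∃ x y : K, v = x • f + y • e := by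
  have hli : LinearIndependent K ![f, e] := by
    rw [LinearIndependent.pair_iff]
    intro s t hst
    have hs : s = 0 := by
      by_contra hs
      apply hef (-(s⁻¹ * t))
      have h1 : f = s⁻¹ • (s • f) := by rw [smul_smul, inv_mul_cancel₀ hs, one_smul]
      rw [h1, eq_neg_of_add_eq_zero_left hst]
      module
    rw [hs, zero_smul, zero_add] at hst
    exact ⟨hs, (smul_eq_zero.1 hst).resolve_right he0⟩
  have h2 : Submodule.span K (Set.range ![f, e]) = L := by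
    apply Submodule.eq_of_le_of_finrank_eq
    · rw [Submodule.span_le]
      rintro _ ⟨i, rfl⟩
      fin_cases i
      · exact hf
      · exact he
    · rw [finrank_span_eq_card hli, Fintype.card_fin, hL]
  rw [← h2] at hv
  obtain ⟨c, hc⟩ := (Submodule.mem_span_range_iff_exists_fun K).1 hv
  refine ⟨c 0, c 1, ?_⟩
  rw [← hc, Fin.sum_univ_two]
  rfl

theorem exists_second {L : Submodule K V} (hL : finrank K L = 2) (e : V) : ∃ f ∈ L, ∀ c : K, f ≠ c • e := by
  by_contra hcon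
  push Not at hcon
  have h1 : L ≤ K ∙ e := by
    intro f hf
    obtain ⟨c, hc⟩ := hcon f hf
    exact Submodule.mem_span_singleton.2 ⟨c, hc.symm⟩
  have h2 := Submodule.finrank_mono h1
  have h3 := finrank_span_le_card (R := K) ({e} : Set V)
  simp only [Set.toFinset_singleton, Finset.card_singleton] at h3
  omega

/-- elements of the flag stabiliser act by a scalar on `L / ⟨e⟩` -/
theorem BB.sc {e : V} {L : Submodule K V} (hL : finrank K L = 2) (he : e ∈ L) (he0 : e ≠ 0) {a : F.iso}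
    (ha : a ∈ BB F e L) : ∃ α : K, ∀ v ∈ L, ∃ c : K, (a : V ≃ₗ[K] V) v = α • v + c • e := by
  obtain ⟨f, hf, hfe⟩ := exists_second hL e
  obtain ⟨α, hα⟩ := St_line.1 ha.1
  obtain ⟨x, y, hxy⟩ := span_two hL he hf he0 hfe (mem_St.1 ha.2 f hf)
  refine ⟨x, fun v hv => ?_⟩
  obtain ⟨s, t, rfl⟩ := span_two hL he hf he0 hfe hv
  refine ⟨s * y + t * α - x * t, ?_⟩
  rw [map_add, map_smul, map_smul, hxy, hα]
  module

/-- **commutators of the flag stabiliser** -/
theorem comm_UU (hR : Rk2 F) {e : V} {L : Submodule K V} (hL : L ∈ F.Om 2) (he : e ∈ L) (he0 : e ≠ 0) {a b : F.iso}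
    (ha : a ∈ BB F e L) (hb : b ∈ BB F e L) : UU F e L ((b * a)⁻¹ * (a * b)) := by
  have hx : b * a ∈ BB F e L := mul_mem hb ha
  have hx' := Subgroup.inv_mem _ hx
  obtain ⟨α, hα⟩ := St_line.1 ha.1
  obtain ⟨β, hβ⟩ := St_line.1 hb.1
  obtain ⟨ξ, hξ⟩ := St_line.1 hx'.1
  obtain ⟨α', hα'⟩ := BB.sc hL.2 he he0 ha
  obtain ⟨β', hβ'⟩ := BB.sc hL.2 he he0 hb
  obtain ⟨γ, hγ⟩ := hR.sc L hL a ha.2
  obtain ⟨δ, hδ⟩ := hR.sc L hL b hb.2
  refine ⟨?_, fun v hv => ?_, fun v hv => ?_⟩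
  · have e1 : ((a * b : F.iso) : V ≃ₗ[K] V) e = ((b * a : F.iso) : V ≃ₗ[K] V) e := by
      rw [mul_ap, mul_ap, hβ, hα, map_smul, map_smul, hα, hβ, smul_smul, smul_smul, mul_comm]
    rw [mul_ap, e1, inv_ap]
  · obtain ⟨c, hc⟩ := hα' v hv
    obtain ⟨d, hd⟩ := hβ' v hv
    have e1 : ((a * b : F.iso) : V ≃ₗ[K] V) v = ((b * a : F.iso) : V ≃ₗ[K] V) v + (β' * c + d * α - (α' * d + c * β)) • e := by
      rw [mul_ap, mul_ap, hd, hc, map_add, map_add, map_smul, map_smul, map_smul, map_smul, hc, hd, hα, hβ]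
      module
    refine ⟨(β' * c + d * α - (α' * d + c * β)) * ξ, ?_⟩
    rw [mul_ap, e1, map_add, inv_ap, map_smul, hξ, smul_smul]
  · have e1 : ((a * b : F.iso) : V ≃ₗ[K] V) v - ((b * a : F.iso) : V ≃ₗ[K] V) v ∈ L := by
      have h1 := hγ v hv
      have h2 := hδ v hv
      have h3 := mem_St.1 ha.2 _ h2
      have h4 := mem_St.1 hb.2 _ h1
      rw [map_sub, map_smul] at h3 h4
      have e2 : ((a * b : F.iso) : V ≃ₗ[K] V) v - ((b * a : F.iso) : V ≃ₗ[K] V) v =
          ((a : V ≃ₗ[K] V) ((b : V ≃ₗ[K] V) v) - δ • (a : V ≃ₗ[K] V) v) + δ • ((a : V ≃ₗ[K] V) v - γ • v) -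
          (((b : V ≃ₗ[K] V) ((a : V ≃ₗ[K] V) v) - γ • (b : V ≃ₗ[K] V) v) + γ • ((b : V ≃ₗ[K] V) v - δ • v)) := by
        rw [mul_ap, mul_ap]
        module
      rw [e2]
      exact L.sub_mem (L.add_mem h3 (L.smul_mem _ h1)) (L.add_mem h4 (L.smul_mem _ h2))
    have h5 := mem_St.1 hx'.2 _ e1
    rw [map_sub, inv_ap] at h5
    exact h5

/-- the flag stabiliser normalises the radical -/
theorem UU.conj {e : V} {L : Submodule K V} {u b : F.iso} (hu : UU F e L u)
    (hb : b ∈ BB F e L) : UU F e L (b⁻¹ * u * b) := by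
  have hb' := Subgroup.inv_mem _ hb
  obtain ⟨β, hβ⟩ := St_line.1 hb.1
  obtain ⟨γ, hγ⟩ := St_line.1 hb'.1
  refine ⟨?_, fun v hv => ?_, fun v hv => ?_⟩
  · rw [mul_ap, mul_ap, hβ, map_smul, hu.h1, ← hβ, inv_ap]
  · obtain ⟨c, hc⟩ := hu.h2 _ (mem_St.1 hb.2 v hv)
    exact ⟨c * γ, by rw [mul_ap, mul_ap, hc, map_add, inv_ap, map_smul, hγ, smul_smul]⟩
  · have h1 := mem_St.1 hb'.2 _ (hu.h3 _ (mem_perp_ap hb.2 hv))
    rw [map_sub, inv_ap] at h1
    exact h1

theorem UU.inv {e : V} {L : Submodule K V} {u : F.iso} (hu : UU F e L u) (hL : u ∈ St F L) : UU F e L u⁻¹ := by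
  refine ⟨?_, fun v hv => ?_, fun v hv => ?_⟩
  · have := inv_ap u e
    rwa [hu.h1] at this
  · have hv' : ((u⁻¹ : F.iso) : V ≃ₗ[K] V) v ∈ L := mem_St.1 (Subgroup.inv_mem _ hL) v hv
    obtain ⟨c, hc⟩ := hu.h2 _ hv'
    refine ⟨-c, ?_⟩
    rw [ap_inv] at hc
    have h1 : ((u⁻¹ : F.iso) : V ≃ₗ[K] V) v = (((u⁻¹ : F.iso) : V ≃ₗ[K] V) v + c • e) + -c • e := by module
    rwa [← hc] at h1
  · have hv' := mem_perp_ap (Subgroup.inv_mem _ hL) hv
    have h1 := L.neg_mem (hu.h3 _ hv')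
    rw [ap_inv] at h1
    have e1 : -(v - ((u⁻¹ : F.iso) : V ≃ₗ[K] V) v) = ((u⁻¹ : F.iso) : V ≃ₗ[K] V) v - v := by abel
    rwa [e1] at h1

theorem UU.mul {e : V} {L : Submodule K V} {u z : F.iso} (hu : UU F e L u) (hz : UU F e L z) (hL : z ∈ St F L) :
    UU F e L (u * z) := by
  refine ⟨?_, fun v hv => ?_, fun v hv => ?_⟩
  · rw [mul_ap, hz.h1, hu.h1]
  · obtain ⟨c, hc⟩ := hz.h2 v hv
    obtain ⟨d, hd⟩ := hu.h2 v hv
    refine ⟨c + d, ?_⟩
    rw [mul_ap, hc, map_add, hd, map_smul, hu.h1]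
    module
  · have h1 := hu.h3 _ (mem_perp_ap hL hv)
    have h2 := L.add_mem h1 (hz.h3 v hv)
    rw [sub_add_sub_cancel] at h2
    exact h2

theorem UU.mem_St {e : V} {L : Submodule K V} {u : F.iso} (hu : UU F e L u) (he : e ∈ L) : u ∈ St F L := by
  rw [Flag.mem_St]
  intro v hv
  obtain ⟨c, hc⟩ := hu.h2 v hv
  rw [hc]
  exact L.add_mem hv (L.smul_mem _ he)

/-! ### points -/

theorem sp_two {e e' : V} (he : F.Sing e) (he' : F.Sing e') (hp : F.B e e' = 0) (he0 : e ≠ 0)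
    (hne : ∀ c : K, e' ≠ c • e) : (K ∙ e) ⊔ (K ∙ e') ∈ F.Om 2 := by
  refine ⟨F.TS_sup (F.TS_span_singleton he) (F.TS_span_singleton he') ?_, ?_⟩
  · intro w hw w' hw'
    obtain ⟨s, rfl⟩ := Submodule.mem_span_singleton.1 hw
    obtain ⟨t, rfl⟩ := Submodule.mem_span_singleton.1 hw'
    rw [F.B_smul_left, F.B_smul_right, hp, mul_zero, mul_zero]
  · have he0' : e' ≠ 0 := by
      intro h
      apply hne 0
      rw [h, zero_smul]
    have h1 : (K ∙ e) ⊓ (K ∙ e') = ⊥ := by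
      rw [Submodule.eq_bot_iff]
      rintro x ⟨hx, hx'⟩
      obtain ⟨s, rfl⟩ := Submodule.mem_span_singleton.1 hx
      obtain ⟨t, ht⟩ := Submodule.mem_span_singleton.1 hx'
      by_cases ht0 : t = 0
      · rw [← ht, ht0, zero_smul]
      · exfalso
        apply hne (t⁻¹ * s)
        rw [mul_smul, ← ht, smul_smul, inv_mul_cancel₀ ht0, one_smul]
    have h2 := Submodule.finrank_sup_add_finrank_inf_eq (K ∙ e) (K ∙ e')
    rw [h1, finrank_bot, finrank_span_singleton he0, finrank_span_singleton he0'] at h2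
    omega

theorem no3 (hR : Rk2 F) {e e' g : V} (he : F.Sing e) (he' : F.Sing e') (hg : F.Sing g) (hp : F.B e e' = 0)
    (he0 : e ≠ 0) (hne : ∀ c : K, e' ≠ c • e) (h1 : F.B e g = 0) (h2 : F.B e' g = 0) : g ∈ (K ∙ e) ⊔ (K ∙ e') := by
  by_contra hcon
  have hL := sp_two he he' hp he0 hne
  have h3 : F.TS (((K ∙ e) ⊔ (K ∙ e')) ⊔ (K ∙ g)) := by
    refine F.TS_sup hL.1 (F.TS_span_singleton hg) ?_
    intro w hw w' hw'
    obtain ⟨a, ha, b, hb, rfl⟩ := Submodule.mem_sup.1 hw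
    obtain ⟨s, rfl⟩ := Submodule.mem_span_singleton.1 ha
    obtain ⟨t, rfl⟩ := Submodule.mem_span_singleton.1 hb
    obtain ⟨r, rfl⟩ := Submodule.mem_span_singleton.1 hw'
    rw [F.B_add_left, F.B_smul_left, F.B_smul_left, F.B_smul_right, F.B_smul_right, h1, h2]
    ring
  have h4 := hR.le _ h3
  have h5 : (K ∙ e) ⊔ (K ∙ e') = ((K ∙ e) ⊔ (K ∙ e')) ⊔ (K ∙ g) := by
    apply Submodule.eq_of_le_of_finrank_le le_sup_left
    rw [hL.2]; exact h4
  apply hcon
  rw [h5]
  exact Submodule.mem_sup_right (Submodule.mem_span_singleton_self g)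

/-- `⟨e⟩` and `⟨e'⟩` are adjacent -/
structure Adj (F : CForm K V) (e e' : V) : Prop where
  he : F.Sing e
  he' : F.Sing e'
  hp : F.B e e' = 0
  he0 : e ≠ 0
  hne : ∀ c : K, e' ≠ c • e

theorem Adj.he0' {e e' : V} (h : Adj F e e') : e' ≠ 0 := by
  intro h0
  apply h.hne 0
  rw [h0, zero_smul]

theorem Adj.hne' {e e' : V} (h : Adj F e e') (c : K) : e ≠ c • e' := by
  intro h0
  by_cases hc : c = 0
  · rw [hc, zero_smul] at h0
    exact h.he0 h0
  · apply h.hne c⁻¹
    rw [h0, smul_smul, inv_mul_cancel₀ hc, one_smul]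

theorem Adj.symm {e e' : V} (h : Adj F e e') : Adj F e' e := ⟨h.he', h.he, F.B_eq_zero h.hp, h.he0', h.hne'⟩

theorem Adj.om {e e' : V} (h : Adj F e e') : (K ∙ e) ⊔ (K ∙ e') ∈ F.Om 2 := sp_two h.he h.he' h.hp h.he0 h.hne

theorem mem_perp_line {e v : V} : v ∈ F.perp (K ∙ e) ↔ F.B v e = 0 := by
  constructor
  · intro h
    exact h e (Submodule.mem_span_singleton_self e)
  · intro h w hw
    obtain ⟨t, rfl⟩ := Submodule.mem_span_singleton.1 hw
    rw [F.B_smul_right, h, mul_zero]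

theorem Adj.inter {e e' : V} (h : Adj F e e') {x : V} (h1 : x ∈ K ∙ e) (h2 : x ∈ K ∙ e') : x = 0 := by
  obtain ⟨s, rfl⟩ := Submodule.mem_span_singleton.1 h1
  obtain ⟨t, ht⟩ := Submodule.mem_span_singleton.1 h2
  by_cases ht0 : t = 0
  · rw [← ht, ht0, zero_smul]
  · exfalso
    apply h.hne (t⁻¹ * s)
    rw [mul_smul, ← ht, smul_smul, inv_mul_cancel₀ ht0, one_smul]

/-- a hyperbolic partner of `e'` orthogonal to `e` -/
theorem Adj.partner {e e' : V} (h : Adj F e e') : ∃ f : V, F.Sing f ∧ F.B e' f = 1 ∧ F.B e f = 0 := by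
  have hm := Submodule.mem_span_singleton_self (R := K) e'
  have h1 : (LinearEquiv.coord K V e' h.he0' : (K ∙ e') →ₗ[K] K) ⟨e', hm⟩ = 1 :=
    LinearEquiv.coord_self K V e' h.he0'
  obtain ⟨b, hb, hb1, hb2⟩ := CForm.exists_sing_dual (F := F) (W' := K ∙ e) (F.TS_span_singleton h.he')
    (fun w hw => by
      obtain ⟨t, rfl⟩ := Submodule.mem_span_singleton.1 hw
      rw [mem_perp_line, F.B_smul_left, F.B_eq_zero h.hp, mul_zero])
    (LinearEquiv.coord K V e' h.he0' : (K ∙ e') →ₗ[K] K) (fun w hw => by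
      have h2 : w = 0 := Subtype.ext (h.inter hw w.2)
      rw [h2, map_zero])
    (fun h0 => by
      rw [h0] at h1
      exact zero_ne_one h1)
  exact ⟨b, hb, by rw [← hb1 ⟨e', hm⟩, h1], hb2 e (Submodule.mem_span_singleton_self e)⟩

theorem Adj.mem_UU {e e' : V} (h : Adj F e e') {x : F.iso} (hx : x ∈ _root_.Cfsg.Agent.H113.Two.HcOne.rad F (K ∙ e')) (hx' : x ∈ St F (K ∙ e)) :
    UU F e ((K ∙ e) ⊔ (K ∙ e')) x := by
  rw [mem_rad (F.TS_span_singleton h.he')] at hx
  have h1 : (x : V ≃ₗ[K] V) e = e := by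
    obtain ⟨c, hc⟩ := St_line.1 hx'
    have h2 := hx.2 e (mem_perp_line.2 h.hp)
    have h3 : (x : V ≃ₗ[K] V) e - e ∈ K ∙ e := by
      rw [hc]
      exact (K ∙ e).sub_mem ((K ∙ e).smul_mem _ (Submodule.mem_span_singleton_self e)) (Submodule.mem_span_singleton_self e)
    exact sub_eq_zero.1 (h.inter h3 h2)
  have h2 : (x : V ≃ₗ[K] V) e' = e' := hx.1 e' (Submodule.mem_span_singleton_self e')
  refine ⟨h1, fun v hv => ⟨0, ?_⟩, fun v hv => ?_⟩
  · obtain ⟨a, ha, b, hb, rfl⟩ := Submodule.mem_sup.1 hv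
    obtain ⟨s, rfl⟩ := Submodule.mem_span_singleton.1 ha
    obtain ⟨t, rfl⟩ := Submodule.mem_span_singleton.1 hb
    rw [map_add, map_smul, map_smul, h1, h2, zero_smul, add_zero]
  · exact (le_sup_right : K ∙ e' ≤ _) (hx.2 v (mem_perp_line.2 (hv e' (Submodule.mem_sup_right
      (Submodule.mem_span_singleton_self e')))))

/-- moving the partner -/
theorem Adj.exists_x {e e' : V} (h : Adj F e e') {f y : V} (hf : F.Sing f) (hy : F.Sing y) (hef : F.B e' f = 1)
    (hey : F.B e' y = 1) (hf0 : F.B e f = 0) (hy0 : F.B e y = 0) :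
    ∃ x ∈ _root_.Cfsg.Agent.H113.Two.HcOne.rad F (K ∙ e'), x ∈ St F (K ∙ e) ∧ (x : V ≃ₗ[K] V) f = y := by
  obtain ⟨u, h1, h2, h3⟩ := exists_unip_one (F := F) h.he' hf hef hy hey
  refine ⟨u, (mem_rad (F.TS_span_singleton h.he')).2 ⟨fun w hw => ?_, fun v hv => ?_⟩, St_line.2 ⟨1, ?_⟩, h2⟩
  · obtain ⟨t, rfl⟩ := Submodule.mem_span_singleton.1 hw
    rw [map_smul, h1]
  · rw [h3 v (mem_perp_line.1 hv)]
    have : v - F.B v (y - f) • e' - v = (-F.B v (y - f)) • e' := by module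
    rw [this]
    exact (K ∙ e').smul_mem _ (Submodule.mem_span_singleton_self e')
  · rw [h3 e h.hp, F.B_sub_right, hf0, hy0, sub_zero, zero_smul, sub_zero, one_smul]

/-- **the flag radical is the product of the two radicals** -/
theorem Adj.UU_eq {e e' : V} (h : Adj F e e') {u : F.iso} (hu : UU F e ((K ∙ e) ⊔ (K ∙ e')) u) :
    ∃ x ∈ _root_.Cfsg.Agent.H113.Two.HcOne.rad F (K ∙ e'), x ∈ St F (K ∙ e) ∧ x⁻¹ * u ∈ _root_.Cfsg.Agent.H113.Two.HcOne.rad F (K ∙ e) := by
  have heL : e ∈ (K ∙ e) ⊔ (K ∙ e') := Submodule.mem_sup_left (Submodule.mem_span_singleton_self e)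
  have heL' : e' ∈ (K ∙ e) ⊔ (K ∙ e') := Submodule.mem_sup_right (Submodule.mem_span_singleton_self e')
  obtain ⟨f, hf, hef, hf0⟩ := h.partner
  obtain ⟨c, hc⟩ := hu.h2 e' heL'
  have h0 : F.B e ((u : V ≃ₗ[K] V) f) = 0 := by
    conv_lhs => rw [← hu.h1]
    rw [F.iso_B, hf0]
  obtain ⟨x, hx, hx', hxf⟩ := h.exists_x hf (F.sing_map u hf) hef (by
    have h1 := F.iso_B u e' f
    rw [hc, F.B_add_left, F.B_smul_left, h0, mul_zero, add_zero, hef] at h1
    exact h1) hf0 h0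
  have hxU := h.mem_UU hx hx'
  have hzU : UU F e ((K ∙ e) ⊔ (K ∙ e')) (x⁻¹ * u) :=
    (hxU.inv (hxU.mem_St heL)).mul hu (hu.mem_St heL)
  refine ⟨x, hx, hx', (mem_rad (F.TS_span_singleton h.he)).2 ⟨fun w hw => ?_, fun v hv => ?_⟩⟩
  · obtain ⟨t, rfl⟩ := Submodule.mem_span_singleton.1 hw
    rw [map_smul, hzU.h1]
  · have hv' := mem_perp_line.1 hv
    have hzf : ((x⁻¹ * u : F.iso) : V ≃ₗ[K] V) f = f := by
      rw [mul_ap, ← hxf, inv_ap]
    obtain ⟨d, hd⟩ := hzU.h2 e' heL'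
    have hfe : F.B f e' = F.ε := by rw [F.B_symm, hef, map_one, mul_one]
    have hfe0 : F.B f e = 0 := F.B_eq_zero hf0
    have hee' : F.B e' e = 0 := F.B_eq_zero h.hp
    set w : V := v - F.B v f • e' - (F.B v e' * F.ε⁻¹) • f with hw
    have hwf : F.B w f = 0 := by
      rw [hw, F.B_sub_left, F.B_sub_left, F.B_smul_left, F.B_smul_left, hef, hf.2]
      ring
    have hwe' : F.B w e' = 0 := by
      rw [hw, F.B_sub_left, F.B_sub_left, F.B_smul_left, F.B_smul_left, hfe, h.he'.2, mul_assoc,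
        inv_mul_cancel₀ F.ε_ne]
      ring
    have hwe : F.B w e = 0 := by
      rw [hw, F.B_sub_left, F.B_sub_left, F.B_smul_left, F.B_smul_left, hv', hee', hfe0]
      ring
    have hwL : w ∈ F.perp ((K ∙ e) ⊔ (K ∙ e')) := by
      intro y hy
      obtain ⟨a, ha, b, hb, rfl⟩ := Submodule.mem_sup.1 hy
      rw [F.B_add_right, mem_perp_line.2 hwe a ha, mem_perp_line.2 hwe' b hb, add_zero]
    have h1 := hzU.h3 w hwL
    obtain ⟨a, ha, b, hb, hab⟩ := Submodule.mem_sup.1 h1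
    obtain ⟨s, rfl⟩ := Submodule.mem_span_singleton.1 ha
    obtain ⟨t, rfl⟩ := Submodule.mem_span_singleton.1 hb
    have h2 : t = 0 := by
      have h3 : F.B (((x⁻¹ * u : F.iso) : V ≃ₗ[K] V) w - w) f = 0 := by
        rw [F.B_sub_left, hwf, sub_zero]
        conv_lhs => rw [← hzf]
        rw [F.iso_B, hwf]
      rw [← hab, F.B_add_left, F.B_smul_left, F.B_smul_left, hf0, hef] at h3
      simpa using h3
    rw [h2, zero_smul, add_zero] at hab
    have h4 : v = w + F.B v f • e' + (F.B v e' * F.ε⁻¹) • f := by rw [hw]; abel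
    have h5 : ((x⁻¹ * u : F.iso) : V ≃ₗ[K] V) v - v = (s + F.B v f * d) • e := by
      have h6 : ((x⁻¹ * u : F.iso) : V ≃ₗ[K] V) w = s • e + w := by rw [hab]; abel
      conv_lhs => rw [h4]
      rw [map_add, map_add, map_smul, map_smul, hzf, hd, h6]
      module
    rw [h5]
    exact (K ∙ e).smul_mem _ (Submodule.mem_span_singleton_self e)

/-- **at most two fixed vectors: points** -/
theorem dle_point [Finite V] [Finite K] (hR : Rk2 F) {e e' : V} (h : Adj F e e') {y : F.iso}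
    (hy : (K ∙ e).map (F.iso.subtype y : V →ₗ[K] V) = K ∙ e') {ψ : St F (K ∙ e) → ℂ} (hψ : IsIrrCharacter _ ψ)
    (hψV : ∀ v : St F (K ∙ e), (v : F.iso) ∈ _root_.Cfsg.Agent.H113.Two.HcOne.rad F (K ∙ e) → ψ v = ψ 1) :
    DLe ψ (xs (St F (K ∙ e)) (_root_.Cfsg.Agent.H113.Two.HcOne.rad F (K ∙ e)) y) 2 := by
  classical
  have := finite_iso F
  have hts := F.TS_span_singleton h.he
  set L := (K ∙ e) ⊔ (K ∙ e') with hL
  have heL : e ∈ L := Submodule.mem_sup_left (Submodule.mem_span_singleton_self e)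
  have heL' : e' ∈ L := Submodule.mem_sup_right (Submodule.mem_span_singleton_self e')
  have hX : ∀ x : St F (K ∙ e), x ∈ xs (St F (K ∙ e)) (_root_.Cfsg.Agent.H113.Two.HcOne.rad F (K ∙ e)) y ↔ (x : F.iso) ∈ _root_.Cfsg.Agent.H113.Two.HcOne.rad F (K ∙ e') := by
    intro x
    rw [mem_xs, mem_rad_map hts, hy]
  obtain ⟨f, hf, hef, hf0⟩ := h.partner
  have hf00 : f ≠ 0 := by
    rintro rfl
    rw [F.B_zero_right] at hef
    exact zero_ne_one hef
  -- the element `w`
  obtain ⟨w, hw1, hw2⟩ := F.trans_rel (x := F.pt e h.he0 h.he) (y := F.pt e' h.he0' h.he') (x' := F.pt e h.he0 h.he)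
    (y' := F.pt f hf00 hf) ⟨fun he => by
      obtain ⟨c, -, hc⟩ := F.pt_eq_iff.1 he
      exact h.hne' c hc, F.perp_pt.2 h.hp⟩ ⟨fun he => by
      obtain ⟨c, -, hc⟩ := F.pt_eq_iff.1 he
      have h1 := F.B_eq_zero h.hp
      rw [hc, F.B_smul_right, hef, mul_one] at h1
      rw [(map_eq_zero F.σ).1 h1, zero_smul] at hc
      exact h.he0 hc, F.perp_pt.2 hf0⟩
  rw [F.smul_pt] at hw1 hw2
  obtain ⟨c₁, hc₁, hwe⟩ := F.pt_eq_iff.1 hw1
  obtain ⟨c₂, hc₂, hwe'⟩ := F.pt_eq_iff.1 hw2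
  have hwP : w ∈ St F (K ∙ e) := St_line.2 ⟨c₁, hwe⟩
  have hUX : ∀ u : St F (K ∙ e), UU F e L u → ∃ x ∈ xs (St F (K ∙ e)) (_root_.Cfsg.Agent.H113.Two.HcOne.rad F (K ∙ e)) y,
      ∃ k ∈ (_root_.Cfsg.Agent.H113.Two.HcOne.rad F (K ∙ e)).subgroupOf (St F (K ∙ e)), u = x * k := by
    intro u hu
    obtain ⟨x, hx, hx', hxu⟩ := h.UU_eq hu
    refine ⟨⟨x, hx'⟩, (hX _).2 hx, ⟨x⁻¹ * u, rad_le hxu⟩, hxu, ?_⟩
    apply Subtype.ext
    change (u : F.iso) = x * (x⁻¹ * u)
    rw [mul_inv_cancel_left]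
  have hV : ((_root_.Cfsg.Agent.H113.Two.HcOne.rad F (K ∙ e)).subgroupOf (St F (K ∙ e))).Normal := normal_subgroupOf fun g hg v hv => rad_conj hts hg hv
  refine dLe_two hψ hV hψV ((BB F e L).subgroupOf (St F (K ∙ e)))
    (xs (St F (K ∙ e)) (_root_.Cfsg.Agent.H113.Two.HcOne.rad F (K ∙ e)) y) ⟨w, hwP⟩ (fun g => ?_) (fun a ha b hb => ?_) (fun b hb x hx => ?_)
  · by_cases hg : (g : F.iso) ∈ St F L
    · exact Or.inl ⟨g.2, hg⟩
    · right
      obtain ⟨γ, hγ⟩ := St_line.1 g.2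
      have hγ0 : γ ≠ 0 := by
        rintro rfl
        rw [zero_smul] at hγ
        exact F.map_ne g h.he0 hγ
      have hge : F.B e (((g : F.iso) : V ≃ₗ[K] V) e') = 0 := by
        have h1 := F.iso_B (g : F.iso) e e'
        rw [hγ, F.B_smul_left, h.hp] at h1
        exact (mul_eq_zero.1 h1).resolve_left hγ0
      have hne : F.B e' (((g : F.iso) : V ≃ₗ[K] V) e') ≠ 0 := by
        intro h0
        apply hg
        have h1 := no3 hR h.he h.he' (F.sing_map g h.he') h.hp h.he0 h.hne hge h0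
        rw [Flag.mem_St]
        intro v hv
        obtain ⟨a, ha, b, hb, rfl⟩ := Submodule.mem_sup.1 hv
        obtain ⟨s, rfl⟩ := Submodule.mem_span_singleton.1 ha
        obtain ⟨t, rfl⟩ := Submodule.mem_span_singleton.1 hb
        rw [map_add, map_smul, map_smul, hγ]
        exact L.add_mem (L.smul_mem _ (L.smul_mem _ heL)) (L.smul_mem _ h1)
      set β := F.B e' (((g : F.iso) : V ≃ₗ[K] V) e') with hβ
      have hσβ : F.σ β⁻¹ ≠ 0 := by
        rw [Ne, map_eq_zero]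
        exact inv_ne_zero hne
      obtain ⟨x, hx, hx', hxf⟩ := h.exists_x (y := F.σ β⁻¹ • ((g : F.iso) : V ≃ₗ[K] V) e') hf
        (F.sing_smul (F.sing_map g h.he') _) hef
        (by rw [F.B_smul_right, F.σσ, ← hβ, inv_mul_cancel₀ hne]) hf0
        (by rw [F.B_smul_right, hge, mul_zero])
      have hbP : ((x * w)⁻¹ * g : F.iso) ∈ St F (K ∙ e) := mul_mem (inv_mem (mul_mem hx' hwP)) g.2
      refine ⟨⟨x, hx'⟩, (hX _).2 hx, ⟨(x * w)⁻¹ * g, hbP⟩, ⟨hbP, ?_⟩, ?_⟩
      · have h1 : ((x * w : F.iso) : V ≃ₗ[K] V) e' = (c₂ * F.σ β⁻¹) • ((g : F.iso) : V ≃ₗ[K] V) e' := by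
          rw [mul_ap, hwe', map_smul, hxf, smul_smul]
        have hcβ : c₂ * F.σ β⁻¹ ≠ 0 := mul_ne_zero hc₂ hσβ
        have h2 : (((x * w)⁻¹ * g : F.iso) : V ≃ₗ[K] V) e' = (c₂ * F.σ β⁻¹)⁻¹ • e' := by
          have h3 : ((g : F.iso) : V ≃ₗ[K] V) e' = (c₂ * F.σ β⁻¹)⁻¹ • ((x * w : F.iso) : V ≃ₗ[K] V) e' := by
            rw [h1, smul_smul, inv_mul_cancel₀ hcβ, one_smul]
          rw [mul_ap, h3, map_smul, inv_ap]
        obtain ⟨δ, hδ⟩ := St_line.1 hbP
        change ((x * w)⁻¹ * g : F.iso) ∈ St F L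
        rw [Flag.mem_St]
        intro v hv
        obtain ⟨a, ha, b, hb, rfl⟩ := Submodule.mem_sup.1 hv
        obtain ⟨s, rfl⟩ := Submodule.mem_span_singleton.1 ha
        obtain ⟨t, rfl⟩ := Submodule.mem_span_singleton.1 hb
        rw [map_add, map_smul, map_smul, h2, hδ]
        exact L.add_mem (L.smul_mem _ (L.smul_mem _ heL)) (L.smul_mem _ (L.smul_mem _ heL'))
      · apply Subtype.ext
        change (g : F.iso) = x * w * ((x * w)⁻¹ * g)
        rw [mul_inv_cancel_left]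
  · have hu := comm_UU hR h.om heL h.he0 ha hb
    obtain ⟨x, hx, k, hk, he⟩ := hUX ((b * a)⁻¹ * (a * b)) hu
    refine ⟨x, hx, k, hk, ?_⟩
    rw [mul_assoc, ← he, mul_inv_cancel_left]
  · have hxU : UU F e L x := h.mem_UU ((hX x).1 hx) x.2
    have hu := hxU.conj hb
    obtain ⟨x', hx', k, hk, he⟩ := hUX (b⁻¹ * x * b) hu
    refine ⟨x', hx', k, hk, ?_⟩
    rw [mul_assoc, ← he, mul_assoc, mul_inv_cancel_left]

/-! ### lines -/

/-- the lines `⟨e, f⟩` and `⟨e, f'⟩` -/
structure Adj2 (F : CForm K V) (e f f' : V) : Prop where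
  h : Adj F e f
  h' : Adj F e f'
  hff : F.B f f' = 1

theorem Adj2.exists_x {e f f' : V} (h : Adj2 F e f f') (c : K) :
    ∃ x ∈ _root_.Cfsg.Agent.H113.Two.HcOne.rad F ((K ∙ e) ⊔ (K ∙ f')), x ∈ St F ((K ∙ e) ⊔ (K ∙ f)) ∧ (x : V ≃ₗ[K] V) e = e ∧
      (x : V ≃ₗ[K] V) f = f + c • e := by
  have hs := F.sing_smul h.h'.he' (F.σ c)
  obtain ⟨x, hx⟩ := F.exists_root (c := e) (b := F.σ c • f') h.h.he hs
    (by rw [F.B_smul_right, h.h'.hp, mul_zero])
  have h1 : (x : V ≃ₗ[K] V) e = e := by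
    rw [hx, F.B_smul_right, h.h'.hp, h.h.he.2]
    simp
  have h2 : (x : V ≃ₗ[K] V) f = f + c • e := by
    rw [hx, F.B_smul_right, F.σσ, h.hff, F.B_eq_zero h.h.hp]
    simp
  have h3 : (x : V ≃ₗ[K] V) f' = f' := by
    rw [hx, F.B_smul_right, h.h'.he'.2, F.B_eq_zero h.h'.hp]
    simp
  have hm := Submodule.mem_span_singleton_self (R := K) e
  refine ⟨x, (mem_rad h.h'.om.1).2 ⟨fun v hv => ?_, fun v hv => ?_⟩, ?_, h1, h2⟩
  · obtain ⟨a, ha, b, hb, rfl⟩ := Submodule.mem_sup.1 hv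
    obtain ⟨s, rfl⟩ := Submodule.mem_span_singleton.1 ha
    obtain ⟨t, rfl⟩ := Submodule.mem_span_singleton.1 hb
    rw [map_add, map_smul, map_smul, h1, h3]
  · have a1 := hv e (Submodule.mem_sup_left hm)
    have a2 := hv f' (Submodule.mem_sup_right (Submodule.mem_span_singleton_self f'))
    rw [hx, F.B_smul_right, a1, a2]
    simp
  · rw [Flag.mem_St]
    intro v hv
    obtain ⟨a, ha, b, hb, rfl⟩ := Submodule.mem_sup.1 hv
    obtain ⟨s, rfl⟩ := Submodule.mem_span_singleton.1 ha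
    obtain ⟨t, rfl⟩ := Submodule.mem_span_singleton.1 hb
    rw [map_add, map_smul, map_smul, h1, h2]
    have hf := Submodule.mem_span_singleton_self (R := K) f
    exact Submodule.add_mem _ (Submodule.smul_mem _ _ (Submodule.mem_sup_left hm)) (Submodule.smul_mem _ _
      (Submodule.add_mem _ (Submodule.mem_sup_right hf) (Submodule.smul_mem _ _ (Submodule.mem_sup_left hm))))

theorem Adj2.mem_UU {e f f' : V} (h : Adj2 F e f f') {x : F.iso} (hx : x ∈ _root_.Cfsg.Agent.H113.Two.HcOne.rad F ((K ∙ e) ⊔ (K ∙ f')))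
    (hx' : x ∈ St F ((K ∙ e) ⊔ (K ∙ f))) : UU F e ((K ∙ e) ⊔ (K ∙ f)) x := by
  rw [mem_rad h.h'.om.1] at hx
  have heL : e ∈ (K ∙ e) ⊔ (K ∙ f) := Submodule.mem_sup_left (Submodule.mem_span_singleton_self e)
  have hfL : f ∈ (K ∙ e) ⊔ (K ∙ f) := Submodule.mem_sup_right (Submodule.mem_span_singleton_self f)
  have heL' : e ∈ (K ∙ e) ⊔ (K ∙ f') := Submodule.mem_sup_left (Submodule.mem_span_singleton_self e)
  have hfL' : f' ∈ (K ∙ e) ⊔ (K ∙ f') := Submodule.mem_sup_right (Submodule.mem_span_singleton_self f')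
  have h1 := hx.1 e heL'
  have h2 := hx.1 f' hfL'
  obtain ⟨α, β, hαβ⟩ := span_two h.h.om.2 heL hfL h.h.he0 h.h.hne (Flag.mem_St.1 hx' f hfL)
  have hα : α = 1 := by
    have h3 := F.iso_B x f f'
    rw [h2, hαβ, F.B_add_left, F.B_smul_left, F.B_smul_left, h.h'.hp, h.hff] at h3
    simpa using h3
  rw [hα, one_smul] at hαβ
  refine ⟨h1, fun v hv => ?_, fun v hv => ?_⟩
  · obtain ⟨s, t, rfl⟩ := span_two h.h.om.2 heL hfL h.h.he0 h.h.hne hv
    refine ⟨s * β, ?_⟩
    rw [map_add, map_smul, map_smul, hαβ, h1]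
    module
  · have hff' : F.B f' f = F.ε := by rw [F.B_symm, h.hff, map_one, mul_one]
    set w : V := v - F.B v f' • f with hw
    have hwL' : w ∈ F.perp ((K ∙ e) ⊔ (K ∙ f')) := by
      intro y hy
      obtain ⟨a, ha, b, hb, rfl⟩ := Submodule.mem_sup.1 hy
      obtain ⟨s, rfl⟩ := Submodule.mem_span_singleton.1 ha
      obtain ⟨t, rfl⟩ := Submodule.mem_span_singleton.1 hb
      rw [hw, F.B_add_right, F.B_smul_right, F.B_smul_right, F.B_sub_left, F.B_sub_left, F.B_smul_left, F.B_smul_left,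
        hv e heL, F.B_eq_zero h.h.hp, h.hff]
      ring
    have hwL : w ∈ F.perp ((K ∙ e) ⊔ (K ∙ f)) :=
      Submodule.sub_mem _ hv (Submodule.smul_mem _ _ (h.h.om.1.le_perp hfL))
    obtain ⟨a, ha, b, hb, hab⟩ := Submodule.mem_sup.1 (hx.2 w hwL')
    obtain ⟨s, rfl⟩ := Submodule.mem_span_singleton.1 ha
    obtain ⟨t, rfl⟩ := Submodule.mem_span_singleton.1 hb
    have h3 : t = 0 := by
      have h4 : F.B ((x : V ≃ₗ[K] V) w - w) f = 0 := by
        rw [F.B_sub_left, mem_perp_ap hx' hwL f hfL, hwL f hfL, sub_zero]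
      rw [← hab, F.B_add_left, F.B_smul_left, F.B_smul_left, h.h.hp, hff', mul_zero, zero_add] at h4
      exact (mul_eq_zero.1 h4).resolve_right F.ε_ne
    rw [h3, zero_smul, add_zero] at hab
    have h4 : v = w + F.B v f' • f := by rw [hw]; abel
    have h5 : (x : V ≃ₗ[K] V) v - v = (s + F.B v f' * β) • e := by
      have h6 : (x : V ≃ₗ[K] V) w = s • e + w := by rw [hab]; abel
      conv_lhs => rw [h4]
      rw [map_add, map_smul, hαβ, h6]
      module
    rw [h5]
    exact Submodule.smul_mem _ _ heL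

theorem Adj2.UU_eq {e f f' : V} (h : Adj2 F e f f') {u : F.iso} (hu : UU F e ((K ∙ e) ⊔ (K ∙ f)) u) :
    ∃ x ∈ _root_.Cfsg.Agent.H113.Two.HcOne.rad F ((K ∙ e) ⊔ (K ∙ f')), x ∈ St F ((K ∙ e) ⊔ (K ∙ f)) ∧ x⁻¹ * u ∈ _root_.Cfsg.Agent.H113.Two.HcOne.rad F ((K ∙ e) ⊔ (K ∙ f)) := by
  have heL : e ∈ (K ∙ e) ⊔ (K ∙ f) := Submodule.mem_sup_left (Submodule.mem_span_singleton_self e)
  have hfL : f ∈ (K ∙ e) ⊔ (K ∙ f) := Submodule.mem_sup_right (Submodule.mem_span_singleton_self f)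
  obtain ⟨c, hc⟩ := hu.h2 f hfL
  obtain ⟨x, hx, hx', hxe, hxf⟩ := h.exists_x c
  have hxU := h.mem_UU hx hx'
  have hzU : UU F e ((K ∙ e) ⊔ (K ∙ f)) (x⁻¹ * u) :=
    (hxU.inv (hxU.mem_St heL)).mul hu (hu.mem_St heL)
  refine ⟨x, hx, hx', (mem_rad h.h.om.1).2 ⟨fun v hv => ?_, hzU.h3⟩⟩
  obtain ⟨a, ha, b, hb, rfl⟩ := Submodule.mem_sup.1 hv
  obtain ⟨s, rfl⟩ := Submodule.mem_span_singleton.1 ha
  obtain ⟨t, rfl⟩ := Submodule.mem_span_singleton.1 hb
  have hzf : ((x⁻¹ * u : F.iso) : V ≃ₗ[K] V) f = f := by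
    rw [mul_ap, hc, ← hxf, inv_ap]
  rw [map_add, map_smul, map_smul, hzU.h1, hzf]

/-- **at most two fixed vectors: lines** -/
theorem dle_line [Finite V] [Finite K] (hR : Rk2 F) {e f f' : V} (h : Adj2 F e f f') {L : Submodule K V}
    (hL : L = (K ∙ e) ⊔ (K ∙ f)) {y : F.iso}
    (hy : L.map (F.iso.subtype y : V →ₗ[K] V) = (K ∙ e) ⊔ (K ∙ f')) {ψ : St F L → ℂ} (hψ : IsIrrCharacter _ ψ)
    (hψV : ∀ v : St F L, (v : F.iso) ∈ _root_.Cfsg.Agent.H113.Two.HcOne.rad F L → ψ v = ψ 1) :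
    DLe ψ (xs (St F L) (_root_.Cfsg.Agent.H113.Two.HcOne.rad F L) y) 2 := by
  classical
  have := finite_iso F
  have hLO : L ∈ F.Om 2 := by rw [hL]; exact h.h.om
  have hts := hLO.1
  have heL : e ∈ L := by rw [hL]; exact Submodule.mem_sup_left (Submodule.mem_span_singleton_self e)
  have hfL : f ∈ L := by rw [hL]; exact Submodule.mem_sup_right (Submodule.mem_span_singleton_self f)
  have hX : ∀ x : St F L, x ∈ xs (St F L) (_root_.Cfsg.Agent.H113.Two.HcOne.rad F L) y ↔ (x : F.iso) ∈ _root_.Cfsg.Agent.H113.Two.HcOne.rad F ((K ∙ e) ⊔ (K ∙ f')) := by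
    intro x
    rw [mem_xs, mem_rad_map hts, hy]
  -- the element `w`
  obtain ⟨w, hw1, hw2⟩ := F.trans_rel (x := F.pt e h.h.he0 h.h.he) (y := F.pt f h.h.he0' h.h.he')
    (x' := F.pt f h.h.he0' h.h.he') (y' := F.pt e h.h.he0 h.h.he) ⟨fun he => by
      obtain ⟨c, -, hc⟩ := F.pt_eq_iff.1 he
      exact h.h.hne' c hc, F.perp_pt.2 h.h.hp⟩ ⟨fun he => by
      obtain ⟨c, -, hc⟩ := F.pt_eq_iff.1 he
      exact h.h.hne c hc, F.perp_pt.2 (F.B_eq_zero h.h.hp)⟩
  rw [F.smul_pt] at hw1 hw2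
  obtain ⟨c₁, hc₁, hwe⟩ := F.pt_eq_iff.1 hw1
  obtain ⟨c₂, hc₂, hwf⟩ := F.pt_eq_iff.1 hw2
  have hwP : w ∈ St F L := by
    rw [Flag.mem_St]
    intro v hv
    obtain ⟨s, t, rfl⟩ := span_two hLO.2 heL hfL h.h.he0 h.h.hne hv
    rw [map_add, map_smul, map_smul, hwe, hwf]
    exact L.add_mem (L.smul_mem _ (L.smul_mem _ heL)) (L.smul_mem _ (L.smul_mem _ hfL))
  have hUX1 : ∀ u : F.iso, UU F e L u → ∃ x ∈ _root_.Cfsg.Agent.H113.Two.HcOne.rad F ((K ∙ e) ⊔ (K ∙ f')), x ∈ St F L ∧ x⁻¹ * u ∈ _root_.Cfsg.Agent.H113.Two.HcOne.rad F L := by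
    rw [hL]
    intro u hu
    exact h.UU_eq hu
  have hXU : ∀ x : F.iso, x ∈ _root_.Cfsg.Agent.H113.Two.HcOne.rad F ((K ∙ e) ⊔ (K ∙ f')) → x ∈ St F L → UU F e L x := by
    rw [hL]
    exact fun x hx hx' => h.mem_UU hx hx'
  have hUX : ∀ u : St F L, UU F e L u → ∃ x ∈ xs (St F L) (_root_.Cfsg.Agent.H113.Two.HcOne.rad F L) y,
      ∃ k ∈ (_root_.Cfsg.Agent.H113.Two.HcOne.rad F L).subgroupOf (St F L), u = x * k := by
    intro u hu
    obtain ⟨x, hx, hx', hxu⟩ := hUX1 u hu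
    refine ⟨⟨x, hx'⟩, (hX _).2 hx, ⟨x⁻¹ * u, rad_le hxu⟩, hxu, ?_⟩
    apply Subtype.ext
    change (u : F.iso) = x * (x⁻¹ * u)
    rw [mul_inv_cancel_left]
  have hV : ((_root_.Cfsg.Agent.H113.Two.HcOne.rad F L).subgroupOf (St F L)).Normal := normal_subgroupOf fun g hg v hv => rad_conj hts hg hv
  refine dLe_two hψ hV hψV ((BB F e L).subgroupOf (St F L))
    (xs (St F L) (_root_.Cfsg.Agent.H113.Two.HcOne.rad F L) y) ⟨w, hwP⟩ (fun g => ?_) (fun a ha b hb => ?_) (fun b hb x hx => ?_)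
  · obtain ⟨α, β, hαβ⟩ := span_two hLO.2 heL hfL h.h.he0 h.h.hne (Flag.mem_St.1 g.2 e heL)
    by_cases hα : α = 0
    · left
      refine ⟨St_line.2 ⟨β, ?_⟩, g.2⟩
      change ((g : F.iso) : V ≃ₗ[K] V) e = β • e
      rw [hαβ, hα, zero_smul, zero_add]
    · right
      obtain ⟨x, hx, hx', hxe, hxf⟩ := h.exists_x (α⁻¹ * β)
      rw [← hL] at hx'
      have hbP : ((x * w)⁻¹ * g : F.iso) ∈ St F L := mul_mem (inv_mem (mul_mem hx' hwP)) g.2
      refine ⟨⟨x, hx'⟩, (hX _).2 hx, ⟨(x * w)⁻¹ * g, hbP⟩, ⟨?_, hbP⟩, ?_⟩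
      · have h1 : ((x * w : F.iso) : V ≃ₗ[K] V) e = (c₁ * α⁻¹) • ((g : F.iso) : V ≃ₗ[K] V) e := by
          rw [mul_ap, hwe, map_smul, hxf, hαβ, smul_add, smul_add, smul_smul, smul_smul, smul_smul, mul_assoc c₁,
            inv_mul_cancel₀ hα, mul_one, mul_assoc c₁]
        have hcβ : c₁ * α⁻¹ ≠ 0 := mul_ne_zero hc₁ (inv_ne_zero hα)
        refine St_line.2 ⟨(c₁ * α⁻¹)⁻¹, ?_⟩
        change (((x * w)⁻¹ * g : F.iso) : V ≃ₗ[K] V) e = _
        have h3 : ((g : F.iso) : V ≃ₗ[K] V) e = (c₁ * α⁻¹)⁻¹ • ((x * w : F.iso) : V ≃ₗ[K] V) e := by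
          rw [h1, smul_smul, inv_mul_cancel₀ hcβ, one_smul]
        rw [mul_ap, h3, map_smul, inv_ap]
      · apply Subtype.ext
        change (g : F.iso) = x * w * ((x * w)⁻¹ * g)
        rw [mul_inv_cancel_left]
  · have hu := comm_UU hR hLO heL h.h.he0 ha hb
    obtain ⟨x, hx, k, hk, he⟩ := hUX ((b * a)⁻¹ * (a * b)) hu
    refine ⟨x, hx, k, hk, ?_⟩
    rw [mul_assoc, ← he, mul_inv_cancel_left]
  · have hxU : UU F e L x := hXU x ((hX x).1 hx) x.2
    have hu := hxU.conj hb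
    obtain ⟨x', hx', k, hk, he⟩ := hUX (b⁻¹ * x * b) hu
    refine ⟨x', hx', k, hk, ?_⟩
    rw [mul_assoc, ← he, mul_assoc, mul_inv_cancel_left]

end Cfsg.Agent.H113.Cusp.Rel
end

-- part: H113/Cusp/Asm
section
/-!
# Families of seven characters agreeing on a parabolic subgroup are cuspidal, Witt index two (helper113)
-/

set_option autoImplicit false
set_option linter.unusedSectionVars false

open scoped ComplexConjugate
open Cfsg

namespace Cfsg.Agent.H113.Cusp.Asm

open Module Cfsg.Agent.H53.HC Cfsg.Agent.H477.HC Cfsg.Agent.H477.HC.CForm Cfsg.Agent.H113.Two.HcOne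
  Cfsg.Agent.H113.Cusp.Tool Cfsg.Agent.H113.Cusp.Flag Cfsg.Agent.H113.Cusp.Rel

universe u v w

variable {K : Type u} [Field K] {V : Type v} [AddCommGroup V] [Module K V] {F : CForm K V} [FiniteDimensional K V]

/-- the image of a subspace -/
abbrev im (g : F.iso) (W : Submodule K V) : Submodule K V := W.map (F.iso.subtype g : V →ₗ[K] V)

theorem im_mul (g h : F.iso) (W : Submodule K V) : im (g * h) W = im g (im h W) := map_mul_apply F.iso.subtype g h W

theorem im_one (W : Submodule K V) : im (1 : F.iso) W = W := Submodule.map_id _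

theorem im_inv {g : F.iso} {W W' : Submodule K V} (h : im g W = W') : im g⁻¹ W' = W := by
  rw [← h, ← im_mul, inv_mul_cancel, im_one]

theorem mem_St' {g : F.iso} {W : Submodule K V} : g ∈ St F W ↔ im g W = W := Iff.rfl

/-- the same position: the same double coset -/
theorem dcoset {W : Submodule K V} {x y g : F.iso} (hg : g ∈ St F W) (h : im g (im x W) = im y W) :
    ∃ a ∈ St F W, ∃ b ∈ St F W, x = a * y * b := by
  refine ⟨g⁻¹, inv_mem hg, y⁻¹ * g * x, ?_, by group⟩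
  rw [mem_St', im_mul, im_mul, h]
  exact im_inv rfl

theorem opp_im {A B : Submodule K V} (g : F.iso) (h : A ⊓ F.perp B = ⊥) : im g A ⊓ F.perp (im g B) = ⊥ := by
  rw [Submodule.eq_bot_iff] at h ⊢
  rintro _ ⟨⟨a, ha, rfl⟩, h2⟩
  have h3 : a = 0 := h a ⟨ha, fun b hb => by
    rw [← F.iso_B g]
    exact h2 _ ⟨b, hb, rfl⟩⟩
  rw [h3, map_zero]

/-- **the opposite case** -/
theorem mle_opp [Finite V] [Finite K] {k : ℕ} {W : Submodule K V} (hW : W ∈ F.Om k) {y : F.iso}
    (hy : W ⊓ F.perp (im y W) = ⊥) {ψ : St F W → ℂ} (hψ : IsIrrCharacter _ ψ)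
    (hψV : ∀ v : St F W, (v : F.iso) ∈ _root_.Cfsg.Agent.H113.Two.HcOne.rad F W → ψ v = ψ 1) : MLe (St F W) ψ y 1 := by
  have := finite_iso F
  have key : ∀ y : F.iso, W ⊓ F.perp (im y W) = ⊥ → ∀ g ∈ St F W, ∃ l ∈ St F W, y⁻¹ * l * y ∈ St F W ∧
      l⁻¹ * g ∈ _root_.Cfsg.Agent.H113.Two.HcOne.rad F W := by
    intro y hy g hg
    have h1 := opp_im g⁻¹ hy
    rw [show im g⁻¹ W = W from mem_St'.1 (inv_mem hg)] at h1
    obtain ⟨u, hu, huW⟩ := rad_trans hW (F.Om_map y W hW) (F.Om_map g⁻¹ _ (F.Om_map y W hW)) hy h1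
    refine ⟨g * u, mul_mem hg (rad_le hu), ?_, ?_⟩
    · rw [mem_St', im_mul, im_mul, im_mul]
      have h2 : im u (im y W) = im g⁻¹ (im y W) := huW
      rw [h2, ← im_mul g, mul_inv_cancel, im_one]
      exact im_inv rfl
    · rw [mul_inv_rev, inv_mul_cancel_right]
      exact inv_mem hu
  refine mLe_one (V := _root_.Cfsg.Agent.H113.Two.HcOne.rad F W) (fun g hg v hv => rad_conj hW.1 hg hv) hψ hψV (key y hy) ?_
  have h2 : W ⊓ F.perp (im y⁻¹ W) = ⊥ := by
    have h3 := opp_symm (F := F) hW.2 (F.Om_map y W hW).2 hy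
    have h4 := opp_im y⁻¹ h3
    rwa [im_inv rfl] at h4
  have := key y⁻¹ h2
  simpa only [inv_inv] using this

/-- the abstract assembly -/
theorem assemble [Finite V] [Finite K] {k : ℕ} {W : Submodule K V} (hW : W ∈ F.Om k) (R : Submodule K V → Prop)
    (hRinv : ∀ y : F.iso, R (im y W) → R (im y⁻¹ W))
    (hRtrans : ∀ x y : F.iso, R (im x W) → R (im y W) → ∃ g ∈ St F W, im g (im x W) = im y W)
    (hcase : ∀ x : F.iso, x ∉ St F W → R (im x W) ∨ W ⊓ F.perp (im x W) = ⊥)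
    (hd : ∀ y : F.iso, R (im y W) → ∀ ψ : St F W → ℂ, IsIrrCharacter _ ψ →
      (∀ v : St F W, (v : F.iso) ∈ _root_.Cfsg.Agent.H113.Two.HcOne.rad F W → ψ v = ψ 1) → DLe ψ (xs (St F W) (_root_.Cfsg.Agent.H113.Two.HcOne.rad F W) y) 2)
    {ι : Type*} [Fintype ι] {χ : ι → F.iso → ℂ} (hχ : ∀ i, IsIrrCharacter F.iso (χ i)) (hinj : Function.Injective χ)
    (hres : ∀ i j, ∀ g ∈ St F W, χ i g = χ j g) (hcard : 7 ≤ Fintype.card ι) [Fintype (rad F W)] (i : ι) :
    ∑ v : rad F W, χ i v = 0 := by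
  classical
  have := finite_iso F
  have := Fintype.ofFinite F.iso
  obtain ⟨W₁, hW₁, hopp⟩ := F.exists_opp hW
  obtain ⟨y₁, hy₁⟩ := F.trans_Om hW hW₁
  have hy₁' : W ⊓ F.perp (im y₁ W) = ⊥ := by
    have : im y₁ W = W₁ := hy₁
    rwa [this]
  have hopp' : ∀ x : F.iso, W ⊓ F.perp (im x W) = ⊥ → ∃ a ∈ St F W, ∃ b ∈ St F W, x = a * y₁ * b := by
    intro x hx
    obtain ⟨u, hu, huW⟩ := rad_trans hW (F.Om_map x W hW) (F.Om_map y₁ W hW) hx hy₁'
    exact dcoset (rad_le hu) huW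
  have hVP : _root_.Cfsg.Agent.H113.Two.HcOne.rad F W ≤ St F W := rad_le
  have hV : ∀ g ∈ St F W, ∀ v ∈ _root_.Cfsg.Agent.H113.Two.HcOne.rad F W, g * v * g⁻¹ ∈ _root_.Cfsg.Agent.H113.Two.HcOne.rad F W := fun g hg v hv => rad_conj hW.1 hg hv
  by_cases hR : ∃ y : F.iso, R (im y W)
  · obtain ⟨y₀, hy₀⟩ := hR
    refine sum_eq_zero hVP hV hχ hinj hres (fun b : Bool => if b then y₀ else y₁) (fun b : Bool => if b then 4 else 1)
      (fun x hx => ?_) (fun ψ hψ hψV b => ?_) ?_ i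
    · rcases hcase x hx with h1 | h1
      · obtain ⟨g, hg, hgx⟩ := hRtrans x y₀ h1 hy₀
        exact ⟨true, dcoset hg hgx⟩
      · exact ⟨false, hopp' x h1⟩
    · cases b
      · exact mle_opp hW hy₁' hψ hψV
      · exact mLe_mul hVP hV hψ hψV (hd y₀ hy₀ ψ hψ hψV) (hd y₀⁻¹ (hRinv y₀ hy₀) ψ hψ hψV)
    · rw [Fintype.sum_bool]
      simp only [if_true, Bool.false_eq_true, if_false]
      omega
  · push Not at hR
    refine sum_eq_zero hVP hV hχ hinj hres (fun _ : Unit => y₁) (fun _ : Unit => 1)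
      (fun x hx => ?_) (fun ψ hψ hψV b => ?_) ?_ i
    · rcases hcase x hx with h1 | h1
      · exact absurd h1 (hR x)
      · exact ⟨(), hopp' x h1⟩
    · exact mle_opp hW hy₁' hψ hψV
    · simp only [Finset.univ_unique, Finset.sum_const, Finset.card_singleton]
      simp only [smul_eq_mul]
      omega

theorem im_line (g : F.iso) (e : V) : im g (K ∙ e) = K ∙ ((g : V ≃ₗ[K] V) e) := by
  unfold im
  rw [Submodule.map_span, Set.image_singleton]
  rfl

/-- **points** -/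
theorem cusp_point [Finite V] [Finite K] (hR : Rk2 F) {W : Submodule K V} (hW : W ∈ F.Om 1)
    {ι : Type*} [Fintype ι] {χ : ι → F.iso → ℂ} (hχ : ∀ i, IsIrrCharacter F.iso (χ i)) (hinj : Function.Injective χ)
    (hres : ∀ i j, ∀ g ∈ St F W, χ i g = χ j g) (hcard : 7 ≤ Fintype.card ι) [Fintype (rad F W)] (i : ι) :
    ∑ v : rad F W, χ i v = 0 := by
  obtain ⟨e, he0, he, hWe⟩ := F.exists_pt ⟨W, hW⟩
  have hWe : W = K ∙ e := congrArg Subtype.val hWe
  subst hWe
  have hadj : ∀ x : F.iso, x ∉ St F (K ∙ e) → F.B e ((x : V ≃ₗ[K] V) e) = 0 → Adj F e ((x : V ≃ₗ[K] V) e) :=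
    fun x hx h0 => ⟨he, F.sing_map x he, h0, he0, fun c hc => hx (St_line.2 ⟨c, hc⟩)⟩
  have hline : ∀ {a b : V}, K ∙ a = K ∙ b → ∃ c : K, a = c • b := by
    intro a b hab
    have h1 : a ∈ K ∙ b := by rw [← hab]; exact Submodule.mem_span_singleton_self a
    obtain ⟨c, hc⟩ := Submodule.mem_span_singleton.1 h1
    exact ⟨c, hc.symm⟩
  refine assemble hW (fun W' => ∃ e', W' = K ∙ e' ∧ Adj F e e') ?_ ?_ ?_ ?_ hχ hinj hres hcard i
  · rintro y ⟨e', he', ha⟩
    refine ⟨_, im_line y⁻¹ e, he, F.sing_map _ he, ?_, he0, fun c hc => ?_⟩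
    · rw [im_line] at he'
      obtain ⟨c, hc⟩ := hline he'
      rw [← F.iso_B y, ap_inv, hc, F.B_smul_left, F.B_eq_zero ha.hp, mul_zero]
    · have h1 : e = c • ((y : V ≃ₗ[K] V) e) := by
        rw [← map_smul, ← hc, ap_inv]
      rw [im_line] at he'
      obtain ⟨d, hd⟩ := hline he'
      rw [hd, smul_smul] at h1
      exact ha.hne' _ h1
  · rintro x y ⟨e₁, h1, ha₁⟩ ⟨e₂, h2, ha₂⟩
    obtain ⟨g, hg1, hg2⟩ := F.trans_rel (x := F.pt e he0 he) (y := F.pt e₁ ha₁.he0' ha₁.he') (x' := F.pt e he0 he)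
      (y' := F.pt e₂ ha₂.he0' ha₂.he') ⟨fun h => by
        obtain ⟨c, -, hc⟩ := F.pt_eq_iff.1 h
        exact ha₁.hne' c hc, F.perp_pt.2 ha₁.hp⟩ ⟨fun h => by
        obtain ⟨c, -, hc⟩ := F.pt_eq_iff.1 h
        exact ha₂.hne' c hc, F.perp_pt.2 ha₂.hp⟩
    refine ⟨g, congrArg Subtype.val hg1, ?_⟩
    rw [h1, h2]
    exact congrArg Subtype.val hg2
  · intro x hx
    by_cases h0 : F.B e ((x : V ≃ₗ[K] V) e) = 0
    · exact Or.inl ⟨_, im_line x e, hadj x hx h0⟩
    · right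
      rw [Submodule.eq_bot_iff]
      rintro w ⟨hw, hw'⟩
      obtain ⟨t, rfl⟩ := Submodule.mem_span_singleton.1 hw
      rw [im_line] at hw'
      have h1 := mem_perp_line.1 hw'
      rw [F.B_smul_left] at h1
      rw [(mul_eq_zero.1 h1).resolve_right h0, zero_smul]
  · rintro y ⟨e', he', ha⟩ ψ hψ hψV
    exact dle_point hR ha he' hψ hψV

/-- two lines meeting in a point -/
theorem exists_adj2 (hR : Rk2 F) {L L' : Submodule K V} (hL : L ∈ F.Om 2) (hL' : L' ∈ F.Om 2) (hne : L' ≠ L) {e f : V}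
    (he : e ∈ L) (he' : e ∈ L') (he0 : e ≠ 0) (hf : f ∈ L) (hfe : ∀ c : K, f ≠ c • e) :
    L = (K ∙ e) ⊔ (K ∙ f) ∧ ∃ f', Adj2 F e f f' ∧ L' = (K ∙ e) ⊔ (K ∙ f') := by
  have hspan : ∀ {M : Submodule K V} {a b : V}, M ∈ F.Om 2 → a ∈ M → b ∈ M → a ≠ 0 → (∀ c : K, b ≠ c • a) →
      M = (K ∙ a) ⊔ (K ∙ b) := by
    intro M a b hM ha hb ha0 hab
    symm
    apply Submodule.eq_of_le_of_finrank_eq
    · exact sup_le ((Submodule.span_singleton_le_iff_mem a M).2 ha) ((Submodule.span_singleton_le_iff_mem b M).2 hb)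
    · rw [hM.2]
      exact (sp_two (F := F) (hM.1.sing ha) (hM.1.sing hb) (hM.1.2 a ha b hb) ha0 hab).2
  have hA : Adj F e f := ⟨hL.1.sing he, hL.1.sing hf, hL.1.2 e he f hf, he0, hfe⟩
  obtain ⟨g, hg, hge⟩ := exists_second hL'.2 e
  have hLe := hspan hL he hf he0 hfe
  refine ⟨hLe, ?_⟩
  have h0 : F.B f g ≠ 0 := by
    intro h0
    apply hne
    have h1 := no3 hR hA.he hA.he' (hL'.1.sing hg) hA.hp he0 hfe (hL'.1.2 e he' g hg) h0
    rw [← hLe] at h1
    rw [hspan hL' he' hg he0 hge]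
    exact (hspan hL he h1 he0 hge).symm
  have hσ : F.σ (F.B f g)⁻¹ ≠ 0 := by
    rw [Ne, map_eq_zero]
    exact inv_ne_zero h0
  have hg' : F.σ (F.B f g)⁻¹ • g ∈ L' := L'.smul_mem _ hg
  have hge' : ∀ c : K, F.σ (F.B f g)⁻¹ • g ≠ c • e := by
    intro c hc
    apply hge ((F.σ (F.B f g)⁻¹)⁻¹ * c)
    rw [mul_smul, ← hc, smul_smul, inv_mul_cancel₀ hσ, one_smul]
  refine ⟨F.σ (F.B f g)⁻¹ • g, ⟨hA, ⟨hA.he, hL'.1.sing hg', hL'.1.2 e he' _ hg', he0, hge'⟩, ?_⟩,
    hspan hL' he' hg' he0 hge'⟩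
  rw [F.B_smul_right, F.σσ, inv_mul_cancel₀ h0]

/-- **lines** -/
theorem cusp_line [Finite V] [Finite K] (hR : Rk2 F) {L : Submodule K V} (hL : L ∈ F.Om 2)
    {ι : Type*} [Fintype ι] {χ : ι → F.iso → ℂ} (hχ : ∀ i, IsIrrCharacter F.iso (χ i)) (hinj : Function.Injective χ)
    (hres : ∀ i j, ∀ g ∈ St F L, χ i g = χ j g) (hcard : 7 ≤ Fintype.card ι) [Fintype (rad F L)] (i : ι) :
    ∑ v : rad F L, χ i v = 0 := by
  have hex : ∀ y : F.iso, (im y L ≠ L ∧ L ⊓ im y L ≠ ⊥) → ∃ e f f', Adj2 F e f f' ∧ L = (K ∙ e) ⊔ (K ∙ f) ∧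
      im y L = (K ∙ e) ⊔ (K ∙ f') := by
    rintro y ⟨h1, h2⟩
    obtain ⟨e, he, he0⟩ := Submodule.exists_mem_ne_zero_of_ne_bot h2
    obtain ⟨f, hf, hfe⟩ := exists_second hL.2 e
    obtain ⟨h3, f', h4, h5⟩ := exists_adj2 hR hL (F.Om_map y L hL) h1 he.1 he.2 he0 hf hfe
    exact ⟨e, f, f', h4, h3, h5⟩
  refine assemble hL (fun L' => L' ≠ L ∧ L ⊓ L' ≠ ⊥) ?_ ?_ ?_ ?_ hχ hinj hres hcard i
  · rintro y ⟨h1, h2⟩
    refine ⟨fun h => h1 ?_, fun h => h2 ?_⟩
    · have := im_inv h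
      rwa [inv_inv] at this
    · have h3 := congrArg (fun M => im y M) h
      simp only [im] at h3
      rw [Submodule.map_inf _ (F.iso.subtype y).injective, Submodule.map_bot] at h3
      have h4 : im y (im y⁻¹ L) = L := by rw [← im_mul, mul_inv_cancel, im_one]
      rw [show Submodule.map (F.iso.subtype y : V →ₗ[K] V) (Submodule.map (F.iso.subtype y⁻¹ : V →ₗ[K] V) L) = L from h4,
        inf_comm] at h3
      exact h3
  · intro x y hx hy
    obtain ⟨e₁, f₁, g₁, h1, hL1, hx1⟩ := hex x hx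
    obtain ⟨e₂, f₂, g₂, h2, hL2, hy2⟩ := hex y hy
    -- move `e₁` to `e₂`
    obtain ⟨w, hw1, hw2⟩ := F.trans_rel (x := F.pt e₁ h1.h.he0 h1.h.he) (y := F.pt f₁ h1.h.he0' h1.h.he')
      (x' := F.pt e₂ h2.h.he0 h2.h.he) (y' := F.pt f₂ h2.h.he0' h2.h.he') ⟨fun h => by
        obtain ⟨c, -, hc⟩ := F.pt_eq_iff.1 h
        exact h1.h.hne' c hc, F.perp_pt.2 h1.h.hp⟩ ⟨fun h => by
        obtain ⟨c, -, hc⟩ := F.pt_eq_iff.1 h
        exact h2.h.hne' c hc, F.perp_pt.2 h2.h.hp⟩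
    have hw1' : im w (K ∙ e₁) = K ∙ e₂ := congrArg Subtype.val hw1
    have hw2' : im w (K ∙ f₁) = K ∙ f₂ := congrArg Subtype.val hw2
    have hwL : im w L = L := by
      conv_lhs => rw [hL1]
      rw [hL2]
      unfold im at hw1' hw2' ⊢
      rw [Submodule.map_sup, hw1', hw2']
    have hwx : w * x ∉ St F L := by
      intro h
      apply hx.1
      rw [mem_St', im_mul] at h
      have h3 := im_inv h
      rw [im_inv hwL] at h3
      exact h3.symm
    have he2L : e₂ ∈ L := by rw [hL2]; exact Submodule.mem_sup_left (Submodule.mem_span_singleton_self _)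
    have hf2L : f₂ ∈ L := by rw [hL2]; exact Submodule.mem_sup_right (Submodule.mem_span_singleton_self _)
    have he2 : e₂ ∈ im (w * x) L := by
      have h3 : K ∙ e₂ ≤ im (w * x) L := by
        rw [im_mul, hx1, ← hw1']
        exact Submodule.map_mono le_sup_left
      exact h3 (Submodule.mem_span_singleton_self e₂)
    obtain ⟨-, g₃, h3, hx3⟩ := exists_adj2 hR hL (F.Om_map (w * x) L hL) hwx he2L he2 h2.h.he0 hf2L h2.h.hne
    obtain ⟨u, hu1, hu2, hu3⟩ := exists_unip_one (F := F) h2.h.he' h3.h'.he' h3.hff h2.h'.he' h2.hff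
    have hue : (u : V ≃ₗ[K] V) e₂ = e₂ := by
      rw [hu3 e₂ h2.h.hp, F.B_sub_right, h2.h'.hp, h3.h'.hp, sub_zero, zero_smul, sub_zero]
    have hue' : im u (K ∙ e₂) = K ∙ e₂ := by rw [im_line, hue]
    have huf' : im u (K ∙ f₂) = K ∙ f₂ := by rw [im_line, hu1]
    have hug' : im u (K ∙ g₃) = K ∙ g₂ := by rw [im_line, hu2]
    have huL : im u L = L := by
      conv_lhs => rw [hL2]
      conv_rhs => rw [hL2]
      unfold im at hue' huf' ⊢
      rw [Submodule.map_sup, hue', huf']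
    refine ⟨u * w, ?_, ?_⟩
    · rw [mem_St', im_mul, hwL, huL]
    · rw [im_mul, ← im_mul w x]
      have hx3' : im (w * x) L = (K ∙ e₂) ⊔ (K ∙ g₃) := hx3
      rw [hx3', hy2]
      unfold im at hue' hug' ⊢
      rw [Submodule.map_sup, hue', hug']
  · intro x hx
    by_cases h0 : L ⊓ im x L = ⊥
    · right
      have hxL := F.Om_map x L hL
      have hxL' : im x L ∈ F.Om 2 := hxL
      rw [Submodule.eq_bot_iff]
      rintro v ⟨hv, hv'⟩
      obtain ⟨a, ha, ha0⟩ := Submodule.exists_mem_ne_zero_of_ne_bot (p := im x L) (fun h => by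
        have := hxL'.2
        rw [h, finrank_bot] at this
        omega)
      obtain ⟨b, hb, hba⟩ := exists_second hxL'.2 a
      have h1 := no3 hR (hxL'.1.sing ha) (hxL'.1.sing hb) (hL.1.sing hv) (hxL'.1.2 a ha b hb) ha0 hba
        (F.B_eq_zero (hv' a ha)) (F.B_eq_zero (hv' b hb))
      have h2 : (K ∙ a) ⊔ (K ∙ b) ≤ im x L :=
        sup_le ((Submodule.span_singleton_le_iff_mem a _).2 ha) ((Submodule.span_singleton_le_iff_mem b _).2 hb)
      have h3 : v ∈ L ⊓ im x L := ⟨hv, h2 h1⟩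
      rw [h0] at h3
      exact (Submodule.mem_bot K).1 h3
    · exact Or.inl ⟨hx, h0⟩
  · intro y hy ψ hψ hψV
    obtain ⟨e, f, f', h1, h2, h3⟩ := hex y hy
    exact dle_line hR h1 h2 h3 hψ hψV

end Cfsg.Agent.H113.Cusp.Asm
end

-- part: H113/Cusp/Reg
section
/-!
# Dimension at most five; elements of order `p`, `p` odd, `p`-th roots of unity in the field, without fixed points (helper113)

* `rk2_of` : `dim V ≤ 5` gives `Rk2`;
* `exists_reg` : `s` of order `p`: some eigenspace `W` is totally singular, `s` normalises `rad W` and acts without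
  fixed points on it.
-/

set_option autoImplicit false
set_option linter.unusedSectionVars false

open scoped ComplexConjugate
open Cfsg

namespace Cfsg.Agent.H113.Cusp.Reg

open Module Cfsg.Agent.H53.HC Cfsg.Agent.H477.HC Cfsg.Agent.H477.HC.CForm Cfsg.Agent.H113.Two.HcOne
  Cfsg.Agent.H113.Cusp.Tool Cfsg.Agent.H113.Cusp.Flag Cfsg.Agent.H113.Cusp.Rel Cfsg.Agent.H113.Cusp.Asm

universe u v w

variable {K : Type u} [Field K] {V : Type v} [AddCommGroup V] [Module K V] {F : CForm K V} [FiniteDimensional K V]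

/-- the dimension of the orthogonal space -/
theorem finrank_perp {k : ℕ} {W : Submodule K V} (hW : W ∈ F.Om k) : finrank K (F.perp W) + k = finrank K V := by
  classical
  obtain ⟨W', hW', hopp⟩ := F.exists_opp hW
  obtain ⟨b, b', hb⟩ := exists_dual_basis hW.2 hW'.2 hopp
  have hbb : ∀ i l, F.B (b' i) (b l) = if i = l then F.ε else 0 := by
    intro i l
    rw [F.B_symm, hb]
    by_cases hij : i = l
    · rw [if_pos hij, if_pos hij.symm, map_one, mul_one]
    · rw [if_neg hij, if_neg (Ne.symm hij), map_zero, mul_zero]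
  let L : V →ₗ[K] (Fin k → K) := LinearMap.pi fun i => F.lf (b i)
  have hL : Function.Surjective L := by
    intro s
    refine ⟨∑ i, (s i * F.ε⁻¹) • (b' i : V), ?_⟩
    ext i
    change F.B (∑ i, (s i * F.ε⁻¹) • (b' i : V)) (b i) = s i
    rw [B_sum_left, Finset.sum_eq_single i]
    · rw [hbb, if_pos rfl, mul_assoc, inv_mul_cancel₀ F.ε_ne, mul_one]
    · intro l _ hl
      rw [hbb, if_neg hl, mul_zero]
    · intro h; exact absurd (Finset.mem_univ _) h
  have h1 := LinearMap.finrank_range_add_finrank_ker L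
  rw [LinearMap.range_eq_top.2 hL, finrank_top, finrank_fin_fun] at h1
  have h2 : LinearMap.ker L = F.perp W := by
    ext v
    rw [LinearMap.mem_ker]
    constructor
    · intro h w hw
      have h4 : w = ∑ i, b.repr ⟨w, hw⟩ i • (b i : V) := by
        have := congrArg Subtype.val (b.sum_repr ⟨w, hw⟩)
        simp only [Submodule.coe_sum, Submodule.coe_smul] at this
        exact this.symm
      rw [h4, B_sum_right]
      refine Finset.sum_eq_zero fun i _ => ?_
      have h5 : F.B v (b i) = 0 := congrFun h i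
      rw [h5, mul_zero]
    · intro h
      ext i
      exact h _ (b i).2
  rw [h2] at h1
  omega

theorem rk2_of (hd : finrank K V ≤ 5) : Rk2 F where
  le W hW := by
    have := H749.Two.two_finrank_le hW
    omega
  sc L hL g hg := by
    have h1 := finrank_perp hL
    have hle := hL.1.le_perp
    by_cases h : ∃ v₀ ∈ F.perp L, v₀ ∉ L
    · obtain ⟨v₀, hv₀, hv₀L⟩ := h
      have h0 : v₀ ≠ 0 := by
        rintro rfl
        exact hv₀L L.zero_mem
      have h2 : L ⊓ (K ∙ v₀) = ⊥ := by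
        rw [Submodule.eq_bot_iff]
        rintro x ⟨hx, hx'⟩
        obtain ⟨t, rfl⟩ := Submodule.mem_span_singleton.1 hx'
        by_cases ht : t = 0
        · rw [ht, zero_smul]
        · exfalso
          apply hv₀L
          have := L.smul_mem t⁻¹ hx
          rwa [smul_smul, inv_mul_cancel₀ ht, one_smul] at this
      have h3 : L ⊔ (K ∙ v₀) = F.perp L := by
        apply Submodule.eq_of_le_of_finrank_le
        · exact sup_le hle ((Submodule.span_singleton_le_iff_mem _ _).2 hv₀)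
        · have h4 := Submodule.finrank_sup_add_finrank_inf_eq L (K ∙ v₀)
          rw [h2, finrank_bot, finrank_span_singleton h0, hL.2] at h4
          omega
      have h4 := mem_perp_ap hg hv₀
      rw [← h3] at h4
      obtain ⟨a, ha, b, hb, hab⟩ := Submodule.mem_sup.1 h4
      obtain ⟨c, rfl⟩ := Submodule.mem_span_singleton.1 hb
      refine ⟨c, fun v hv => ?_⟩
      rw [← h3] at hv
      obtain ⟨a', ha', b', hb', rfl⟩ := Submodule.mem_sup.1 hv
      obtain ⟨t, rfl⟩ := Submodule.mem_span_singleton.1 hb'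
      rw [map_add, map_smul, ← hab]
      have e1 : (g : V ≃ₗ[K] V) a' + t • (a + c • v₀) - c • (a' + t • v₀) = (g : V ≃ₗ[K] V) a' + t • a - c • a' := by
        module
      rw [e1]
      exact L.sub_mem (L.add_mem (mem_St.1 hg a' ha') (L.smul_mem _ ha)) (L.smul_mem _ ha')
    · push Not at h
      refine ⟨0, fun v hv => ?_⟩
      rw [zero_smul, sub_zero]
      exact mem_St.1 hg v (h v hv)

section ss

variable {p : ℕ} [Fact p.Prime]

/-- an operator of order `p` -/
theorem split_of (hpK : (p : K) ≠ 0) {t : V →ₗ[K] V} (ht : t ^ p = 1) (M : Submodule K V)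
    (hM : ∀ v ∈ M, t v ∈ M) {v : V} (hv : v ∈ M) : ∃ x ∈ M, t x = x ∧ ∃ y ∈ M, v = x + (y - t y) := by
  have hpow : ∀ (j : ℕ), ∀ v ∈ M, (t ^ j) v ∈ M := by
    intro j
    induction j with
    | zero => intro v hv; rw [pow_zero]; exact hv
    | succ j ih => intro v hv; rw [pow_succ', Module.End.mul_apply]; exact hM _ (ih v hv)
  refine ⟨(p : K)⁻¹ • (∑ j ∈ Finset.range p, t ^ j) v, ?_, ?_,
    (p : K)⁻¹ • (∑ j ∈ Finset.range p, ∑ i ∈ Finset.range j, t ^ i) v, ?_, ?_⟩
  · rw [LinearMap.sum_apply]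
    exact M.smul_mem _ (M.sum_mem fun j _ => hpow j v hv)
  · rw [map_smul]
    congr 1
    have h1 : t * ∑ j ∈ Finset.range p, t ^ j = ∑ j ∈ Finset.range p, t ^ j := by
      have h2 := mul_neg_geom_sum t p
      rw [ht, sub_self, sub_mul, one_mul, sub_eq_zero] at h2
      exact h2.symm
    exact LinearMap.congr_fun h1 v
  · rw [LinearMap.sum_apply]
    refine M.smul_mem _ (M.sum_mem fun j _ => ?_)
    rw [LinearMap.sum_apply]
    exact M.sum_mem fun i _ => hpow i v hv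
  · have h1 : (1 - t) * ∑ j ∈ Finset.range p, ∑ i ∈ Finset.range j, t ^ i = (p : V →ₗ[K] V) - ∑ j ∈ Finset.range p, t ^ j := by
      rw [Finset.mul_sum, Finset.sum_congr rfl fun j _ => mul_neg_geom_sum t j, Finset.sum_sub_distrib, Finset.sum_const,
        Finset.card_range, nsmul_eq_mul, mul_one]
    have h2 := LinearMap.congr_fun h1 v
    rw [Module.End.mul_apply, LinearMap.sub_apply, LinearMap.sub_apply, Module.End.one_apply] at h2
    have h3 : (p : V →ₗ[K] V) v = (p : K) • v := by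
      rw [← nsmul_one, LinearMap.smul_apply, Module.End.one_apply, Nat.cast_smul_eq_nsmul]
    rw [h3] at h2
    rw [map_smul, ← smul_sub, h2, ← smul_add, add_sub_cancel, smul_smul, inv_mul_cancel₀ hpK, one_smul]

end ss

/-- **fixed point free action on the radical** -/
theorem exists_reg {p : ℕ} [Fact p.Prime] (hp2 : p ≠ 2) (hpK : (p : K) ≠ 0) (hroots : ∃ ζ : K, IsPrimitiveRoot ζ p)
    (hσ : ∀ a : K, a ^ p = 1 → F.σ a = a) {s : F.iso} (hs : orderOf s = p) :
    ∃ W : Submodule K V, W ≠ ⊥ ∧ F.TS W ∧ s ∈ St F W ∧ ∀ u ∈ _root_.Cfsg.Agent.H113.Two.HcOne.rad F W, s * u = u * s → u = 1 := by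
  classical
  have hp : p.Prime := Fact.out
  let S : V →ₗ[K] V := ((s : V ≃ₗ[K] V) : V →ₗ[K] V)
  have hS : ∀ v, S v = (s : V ≃ₗ[K] V) v := fun v => rfl
  have hSp : S ^ p = 1 := by
    have h1 : s ^ p = 1 := by rw [← hs]; exact pow_orderOf_eq_one s
    have key : ∀ (j : ℕ) (v : V), (S ^ j) v = ((s ^ j : F.iso) : V ≃ₗ[K] V) v := by
      intro j
      induction j with
      | zero => intro v; rfl
      | succ j ih => intro v; rw [pow_succ', Module.End.mul_apply, ih, pow_succ', mul_ap]; rfl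
    ext v
    rw [key, h1]
    rfl
  -- an eigenvalue different from one
  obtain ⟨a, ha, ha1, v₀, hv₀, hav⟩ : ∃ a : K, a ^ p = 1 ∧ a ≠ 1 ∧ ∃ v₀ : V, v₀ ≠ 0 ∧ S v₀ = a • v₀ := by
    by_contra hcon
    push Not at hcon
    obtain ⟨ζ, hζ⟩ := hroots
    have h1 : (Polynomial.X ^ p - 1 : Polynomial K) = ∏ b ∈ Polynomial.nthRootsFinset p (1 : K),
        (Polynomial.X - Polynomial.C b) := Polynomial.X_pow_sub_one_eq_prod hp.pos hζ
    have h1m : (1 : K) ∈ Polynomial.nthRootsFinset p (1 : K) := by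
      rw [Polynomial.mem_nthRootsFinset hp.pos, one_pow]
    have h2 : Polynomial.aeval S (Polynomial.X ^ p - 1 : Polynomial K) = 0 := by
      rw [map_sub, map_pow, Polynomial.aeval_X, map_one, hSp, sub_self]
    rw [h1, ← Finset.prod_erase_mul _ _ h1m, map_mul] at h2
    have h3 : ∀ T : Finset K, (∀ b ∈ T, b ^ p = 1 ∧ b ≠ 1) →
        Function.Injective (Polynomial.aeval S (∏ b ∈ T, (Polynomial.X - Polynomial.C b))) := by
      intro T
      induction T using Finset.induction_on with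
      | empty => intro _; rw [Finset.prod_empty, map_one]; exact fun _ _ h => h
      | insert b T hb ih =>
        intro hT
        rw [Finset.prod_insert hb, map_mul]
        have h4 := ih fun c hc => hT c (Finset.mem_insert_of_mem hc)
        have h5 : Function.Injective (Polynomial.aeval S (Polynomial.X - Polynomial.C b)) := by
          rw [injective_iff_map_eq_zero]
          intro v hv
          by_contra hv0
          have hb' := hT b (Finset.mem_insert_self _ _)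
          apply hcon b hb'.1 hb'.2 v hv0
          rw [map_sub, Polynomial.aeval_X, Polynomial.aeval_C, LinearMap.sub_apply] at hv
          exact sub_eq_zero.1 hv
        exact h5.comp h4
    have h4 := h3 ((Polynomial.nthRootsFinset p (1 : K)).erase 1) fun b hb => by
      rw [Finset.mem_erase, Polynomial.mem_nthRootsFinset hp.pos] at hb
      exact ⟨hb.2, hb.1⟩
    have h5 : s = 1 := by
      apply Subtype.ext
      ext v
      have h6 := LinearMap.congr_fun h2 v
      rw [Module.End.mul_apply, LinearMap.zero_apply] at h6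
      have h7 := h4 (h6.trans (map_zero _).symm)
      rw [map_sub, Polynomial.aeval_X, Polynomial.aeval_C, LinearMap.sub_apply, map_one] at h7
      exact sub_eq_zero.1 h7
    rw [h5, orderOf_one] at hs
    exact hp.one_lt.ne hs
  have ha0 : a ≠ 0 := by
    rintro rfl
    rw [zero_pow hp.ne_zero] at ha
    exact zero_ne_one ha
  have hσa := hσ a ha
  have haa : a * a ≠ 1 := by
    intro h
    apply ha1
    have h1 : orderOf (Units.mk0 a ha0) ∣ 2 := orderOf_dvd_of_pow_eq_one (Units.ext (by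
      rw [Units.val_pow_eq_pow_val, Units.val_mk0, sq, h]; rfl))
    have h2 : orderOf (Units.mk0 a ha0) ∣ p := orderOf_dvd_of_pow_eq_one (Units.ext (by
      rw [Units.val_pow_eq_pow_val, Units.val_mk0, ha]; rfl))
    have h3 : Nat.Coprime 2 p := (Nat.coprime_primes Nat.prime_two hp).2 (Ne.symm hp2)
    have h4 := Nat.eq_one_of_dvd_coprimes h3 h1 h2
    rw [orderOf_eq_one_iff] at h4
    exact congrArg Units.val h4
  let W : Submodule K V := LinearMap.ker (S - a • 1)
  have hW : ∀ v, v ∈ W ↔ S v = a • v := by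
    intro v
    rw [LinearMap.mem_ker, LinearMap.sub_apply, sub_eq_zero]
    rfl
  have hWne : W ≠ ⊥ := by
    intro h
    apply hv₀
    have := (hW v₀).2 hav
    rw [h] at this
    exact (Submodule.mem_bot K).1 this
  have hB : ∀ v ∈ W, ∀ w ∈ W, F.B v w = 0 := by
    intro v hv w hw
    have h1 := F.iso_B s v w
    rw [← hS, ← hS, (hW v).1 hv, (hW w).1 hw, F.B_smul_left, F.B_smul_right, hσa, ← mul_assoc] at h1
    have h2 : (a * a - 1) * F.B v w = 0 := by rw [sub_mul, h1]; ring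
    exact (mul_eq_zero.1 h2).resolve_left (sub_ne_zero.2 haa)
  have hTS : F.TS W := by
    refine ⟨fun v hv => ?_, hB⟩
    have h1 := F.iso_Q s v
    rw [← hS, (hW v).1 hv, F.Q_smul, hσa] at h1
    have h2 : (a * a - 1) * F.Q v = 0 := by rw [sub_mul, h1]; ring
    exact (mul_eq_zero.1 h2).resolve_left (sub_ne_zero.2 haa)
  have hst : s ∈ St F W := by
    rw [mem_St]
    intro v hv
    rw [← hS, (hW v).1 hv]
    exact W.smul_mem _ hv
  refine ⟨W, hWne, hTS, hst, fun u hu hcomm => ?_⟩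
  rw [mem_rad hTS] at hu
  have hcomm' : ∀ v, S ((u : V ≃ₗ[K] V) v) = (u : V ≃ₗ[K] V) (S v) := by
    intro v
    rw [hS, hS, ← mul_ap, hcomm, mul_ap]
  -- the operator `t = a⁻¹ s`
  let t : V →ₗ[K] V := a⁻¹ • S
  have ht : t ^ p = 1 := by
    change (a⁻¹ • S) ^ p = 1
    rw [smul_pow, hSp, inv_pow, ha, inv_one, one_smul]
  have htS : ∀ v, t v = a⁻¹ • S v := fun v => rfl
  have htW : ∀ v, t v = v → v ∈ W := by
    intro v hv
    rw [hW]
    have h1 := congrArg (fun x => a • x) hv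
    simp only [htS, smul_smul, mul_inv_cancel₀ ha0, one_smul] at h1
    exact h1
  have htW' : ∀ v ∈ W, t v = v := by
    intro v hv
    rw [htS, (hW v).1 hv, smul_smul, inv_mul_cancel₀ ha0, one_smul]
  have hcommt : ∀ v, t ((u : V ≃ₗ[K] V) v) = (u : V ≃ₗ[K] V) (t v) := by
    intro v
    rw [htS, htS, hcomm', map_smul]
  have step : ∀ M : Submodule K V, (∀ v ∈ M, t v ∈ M) → (∀ v ∈ M, (u : V ≃ₗ[K] V) v - v ∈ W) →
      ∀ v ∈ M, (u : V ≃ₗ[K] V) v = v := by
    intro M hM hM' v hv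
    obtain ⟨x, hx, hx', y, hy, rfl⟩ := split_of hpK ht M hM hv
    have h1 := htW' _ (hM' y hy)
    rw [map_sub, hcommt] at h1
    rw [map_add, map_sub, hu.1 x (htW x hx')]
    have h2 : (u : V ≃ₗ[K] V) y - (u : V ≃ₗ[K] V) (t y) = y - t y := by
      have h3 := sub_eq_sub_iff_add_eq_add.1 h1
      rw [sub_eq_sub_iff_add_eq_add, add_comm _ (t y), add_comm (t y), ← h3]
      abel
    rw [h2]
  have hA : ∀ v ∈ F.perp W, (u : V ≃ₗ[K] V) v = v :=
    step (F.perp W) (fun v hv => (F.perp W).smul_mem _ (mem_perp_ap hst hv)) hu.2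
  have hB' : ∀ v ∈ (⊤ : Submodule K V), (u : V ≃ₗ[K] V) v - v ∈ W := by
    intro v _
    rw [← F.perp_perp W]
    intro w hw
    have h1 := F.iso_B u v w
    rw [hA w hw] at h1
    rw [F.B_sub_left, h1, sub_self]
  have hC := step ⊤ (fun _ _ => trivial) hB'
  apply Subtype.ext
  ext v
  exact hC v trivial

/-- **Families of seven irreducible characters agreeing on all parabolic subgroups have `p`-defect zero**,
`p` odd, `p`-th roots of unity fixed by `σ`, dimension at most five. -/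
theorem defect_zero_form [Finite K] [Finite V] (hd : finrank K V ≤ 5) {p : ℕ} [Fact p.Prime] (hp2 : p ≠ 2)
    (hpK : (p : K) ≠ 0) (hroots : ∃ ζ : K, IsPrimitiveRoot ζ p) (hσ : ∀ a : K, a ^ p = 1 → F.σ a = a)
    {ι : Type*} [Fintype ι] {χ : ι → F.iso → ℂ} (hχ : ∀ i, IsIrrCharacter F.iso (χ i)) (hinj : Function.Injective χ)
    (hres : ∀ W : Submodule K V, W ≠ ⊥ → F.TS W → ∀ g ∈ St F W, ∀ i j, χ i g = χ j g) (hcard : 7 ≤ Fintype.card ι)
    (i : ι) : (charDegree (χ i)).factorization p = (Nat.card F.iso).factorization p := by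
  have := finite_iso F
  refine defect_zero (hχ i) fun s hs => ?_
  obtain ⟨W, hW0, hTS, hst, hfix⟩ := exists_reg hp2 hpK hroots hσ hs
  have hR := rk2_of (F := F) hd
  refine ⟨_root_.Cfsg.Agent.H113.Two.HcOne.rad F W, fun {_} => ?_, fun u => ⟨fun hu => rad_conj hTS hst hu, fun hu => ?_⟩, hfix⟩
  · have h1 : finrank K W ≠ 0 := fun h => hW0 (Submodule.finrank_eq_zero.1 h)
    have h2 := hR.le W hTS
    rcases (show finrank K W = 1 ∨ finrank K W = 2 by omega) with h | h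
    · exact cusp_point hR ⟨hTS, h⟩ hχ hinj (fun i j g hg => hres W hW0 hTS g hg i j) hcard i
    · exact cusp_line hR ⟨hTS, h⟩ hχ hinj (fun i j g hg => hres W hW0 hTS g hg i j) hcard i
  · have h1 := rad_conj hTS (inv_mem hst) hu
    have h2 : s⁻¹ * (s * u * s⁻¹) * s⁻¹⁻¹ = u := by group
    rwa [h2] at h1

end Cfsg.Agent.H113.Cusp.Reg
end
end

-- part: H113/Cusp/Exc
section
prune_inst 0x11402504442200004018058451203c42ca0004b2006b000018600800058abf2060810661b4302814121a84454039006002100080424000000e0004000119008000800282b008a10870001600b182000000000000000000000000000000041004000000000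
set_option linter.all false
open scoped Cfsg.Agent.FastGrp

/-!
# Exceptional characters of a torus with controlled fusion (helper113)

`Tor T N B` : `T` abelian, normalised by `N ≥ T`, and `g t g⁻¹ ∈ T`, `t ∈ T \ B` imply `g ∈ N`.
`exists_chars` : distinct irreducible characters which agree at all elements without conjugates in `T \ B`, from a
family of linear characters of `T` trivial on `B`, regular and pairwise not conjugate under `N`;
`exists_family` : the same, from a homomorphism of `T` onto a cyclic group on which `N` acts by powers.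
-/

set_option autoImplicit false
set_option linter.unusedSectionVars false
set_option linter.style.haveILetI false

open scoped ComplexConjugate
open Cfsg

namespace Cfsg.Agent.H113.Cusp.Exc

open Cfsg.Agent.OddOrderCharacters.Clifford Cfsg.Agent.Characters

variable {G : Type*} [Group G] {T N B : Subgroup G}

/-- an abelian subgroup with controlled fusion -/
structure Tor (T N B : Subgroup G) : Prop where
  le : T ≤ N
  comm : ∀ a ∈ T, ∀ b ∈ T, a * b = b * a
  norm : ∀ x ∈ N, ∀ t ∈ T, x * t * x⁻¹ ∈ T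
  fus : ∀ t ∈ T, t ∉ B → ∀ g : G, g * t * g⁻¹ ∈ T → g ∈ N

theorem Tor.norm' (h : Tor T N B) {x : G} (hx : x ∈ N) {t : G} (ht : t ∈ T) : x⁻¹ * t * x ∈ T := by
  have := h.norm x⁻¹ (N.inv_mem hx) t ht
  rwa [inv_inv] at this

/-- the conjugate of a linear character -/
def Tor.cj (h : Tor T N B) (x : N) (θ : T →* ℂˣ) : T →* ℂˣ where
  toFun t := θ ⟨(x : G)⁻¹ * t * x, h.norm' x.2 t.2⟩
  map_one' := by
    rw [← map_one θ]
    congr 1
    apply Subtype.ext
    change (x : G)⁻¹ * 1 * x = 1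
    group
  map_mul' a b := by
    rw [← map_mul]
    congr 1
    apply Subtype.ext
    change (x : G)⁻¹ * (a * b) * x = (x : G)⁻¹ * a * x * ((x : G)⁻¹ * b * x)
    group

theorem Tor.cj_apply (h : Tor T N B) (x : N) (θ : T →* ℂˣ) (t : T) :
    h.cj x θ t = θ ⟨(x : G)⁻¹ * t * x, h.norm' x.2 t.2⟩ := rfl

/-- `θ` as a function -/
noncomputable def lin (θ : T →* ℂˣ) : T → ℂ := fun t => (θ t : ℂ)

theorem lin_inj {θ η : T →* ℂˣ} (h : lin θ = lin η) : θ = η := by
  ext t
  exact congrFun h t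

open scoped Classical in
theorem inner_lin [Fintype T] (θ η : T →* ℂˣ) : classInner (lin θ) (lin η) = if θ = η then 1 else 0 := by
  have h1 : IsIrrCharacter T (lin θ) := H595.Central.isIrr_hom θ
  have h2 : IsIrrCharacter T (lin η) := H595.Central.isIrr_hom η
  rw [Core.classInner_irr h1 h2]
  by_cases h : θ = η
  · rw [if_pos h, if_pos (by rw [h])]
  · rw [if_neg h, if_neg fun h' => h (lin_inj h')]

theorem Tor.twist_of_notMem (h : Tor T N B) [Fintype T] {α : T → ℂ} (β : T → ℂ)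
    (hα : ∀ t : T, (t : G) ∈ B → α t = 0) {x : G} (hx : x ∉ N) : twist T α β x = 0 := by
  rw [twist_def]
  refine Finset.sum_eq_zero fun t _ => ?_
  by_cases ht : (t : G) ∈ B
  · rw [hα t ht, zero_mul]
  · rw [ext_apply_not_mem T β, map_zero, mul_zero]
    intro hm
    apply hx
    have := h.fus t t.2 ht x⁻¹ (by rwa [inv_inv])
    exact (inv_mem_iff (x := x)).1 this

theorem Tor.twist_of_mem (h : Tor T N B) [Fintype T] (θ η η' : T →* ℂˣ) (α : T → ℂ) (x : N) :
    twist T α (lin η - lin η') x = (Nat.card T : ℂ) * classInner α (lin (h.cj x η) - lin (h.cj x η')) := by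
  rw [Core.classInner_def, mul_inv_cancel_left₀ Core.card_ne_zero_complex, twist_def]
  refine Finset.sum_congr rfl fun t _ => ?_
  rw [ext_apply_mem T _ _ (h.norm' x.2 t.2)]
  rfl

open scoped Classical in
theorem Tor.inner_ind (h : Tor T N B) [Fintype G] [Fintype T] [Fintype N] {θ θ' η η' : T →* ℂˣ}
    (hB : ∀ t : T, (t : G) ∈ B → θ t = θ' t) :
    classInner (indFun T (lin θ - lin θ')) (indFun T (lin η - lin η')) = (Nat.card T : ℂ)⁻¹ *
      ∑ x : N, ((if θ = h.cj x η then (1 : ℂ) else 0) - (if θ = h.cj x η' then (1 : ℂ) else 0) -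
        (if θ' = h.cj x η then (1 : ℂ) else 0) + (if θ' = h.cj x η' then (1 : ℂ) else 0)) := by
  rw [classInner_indFun_indFun]
  congr 1
  have hα : ∀ t : T, (t : G) ∈ B → (lin θ - lin θ') t = 0 := by
    intro t ht
    rw [Pi.sub_apply]
    unfold lin
    rw [hB t ht, sub_self]
  have h1 : ∑ x : G, twist T (lin θ - lin θ') (lin η - lin η') x =
      ∑ x : N, twist T (lin θ - lin θ') (lin η - lin η') x := by
    rw [← Finset.sum_subtype (Finset.univ.filter (fun x => x ∈ N)) (p := fun x => x ∈ N) (by simp)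
      (fun x => twist T (lin θ - lin θ') (lin η - lin η') x)]
    refine (Finset.sum_subset (Finset.filter_subset _ _) fun x _ hx => ?_).symm
    refine h.twist_of_notMem _ hα fun hxN => hx ?_
    exact Finset.mem_filter.2 ⟨Finset.mem_univ _, hxN⟩
  rw [h1, Finset.sum_congr rfl fun x _ => h.twist_of_mem θ η η' _ x, ← Finset.mul_sum,
    inv_mul_cancel_left₀ Core.card_ne_zero_complex]
  refine Finset.sum_congr rfl fun x _ => ?_
  rw [Core.classInner_sub_left, Core.classInner_sub_right, Core.classInner_sub_right, inner_lin, inner_lin, inner_lin,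
    inner_lin]
  ring

open scoped Classical in
theorem Tor.sum_reg (h : Tor T N B) [Fintype T] [Fintype N] {θ : T →* ℂˣ} (hreg : ∀ x : N, h.cj x θ = θ → (x : G) ∈ T) :
    ∑ x : N, (if θ = h.cj x θ then (1 : ℂ) else 0) = Nat.card T := by
  rw [Finset.sum_boole]
  congr 1
  rw [← Fintype.card_subtype, ← Nat.card_eq_fintype_card]
  refine Nat.card_congr ⟨fun x => ⟨x.1, hreg x.1 x.2.symm⟩, fun t => ⟨⟨t, h.le t.2⟩, ?_⟩, fun x => rfl, fun t => rfl⟩
  ext s
  rw [h.cj_apply]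
  congr 2
  apply Subtype.ext
  change (s : G) = (t : G)⁻¹ * s * t
  rw [mul_assoc, h.comm s s.2 t t.2, inv_mul_cancel_left]

open scoped Classical in
theorem sum_none [Fintype T] [Fintype N] (h : Tor T N B) {θ η : T →* ℂˣ} (hne : ∀ x : N, h.cj x η ≠ θ) :
    ∑ x : N, (if θ = h.cj x η then (1 : ℂ) else 0) = 0 :=
  Finset.sum_eq_zero fun x _ => if_neg fun he => hne x he.symm

/-- multiplying the argument by a central element -/
theorem char_mul_central {χ : G → ℂ} (hχ : IsIrrCharacter G χ) {z : G} (hz : ∀ g, z * g = g * z) :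
    ∃ ω : ℂ, ∀ g, χ (g * z) = ω * χ g := by
  obtain ⟨n, ρ, hρ, rfl⟩ := hχ
  obtain ⟨ω, hω⟩ := Central.exists_smul_of_comm ρ hρ (ρ z) (fun g => by
    rw [← map_mul, ← map_mul, hz])
  refine ⟨ω, fun g => ?_⟩
  change LinearMap.trace ℂ _ (ρ (g * z)) = ω * LinearMap.trace ℂ _ (ρ g)
  rw [map_mul, hω, mul_smul_comm, mul_one, map_smul, smul_eq_mul]

/-- **exceptional characters** -/
theorem exists_chars (h : Tor T N B) [Fintype G] {k : ℕ} (i₀ : Fin k) (θ : Fin k → (T →* ℂˣ))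
    (hB : ∀ i, ∀ t : T, (t : G) ∈ B → θ i t = 1) (hreg : ∀ i, ∀ x : N, h.cj x (θ i) = θ i → (x : G) ∈ T)
    (hdist : ∀ i j, i ≠ j → ∀ x : N, h.cj x (θ i) ≠ θ j) :
    ∃ μ : Fin k → G → ℂ, (∀ i, IsIrrCharacter G (μ i)) ∧ Function.Injective μ ∧
      (∀ i j g, (∀ x : G, x * g * x⁻¹ ∈ T → x * g * x⁻¹ ∈ B) → μ i g = μ j g) ∧
      (2 ≤ k → ∀ z ∈ T, z ∈ B → (∀ g, z * g = g * z) → ∀ i, μ i z = μ i 1) := by
  classical
  have : Fintype T := Fintype.ofFinite T
  have : Fintype N := Fintype.ofFinite N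
  have hT : (Nat.card T : ℂ) ≠ 0 := Core.card_ne_zero_complex
  have hdist' : ∀ i j, i ≠ j → ∀ x : N, h.cj x (θ j) ≠ θ i := fun i j hij => hdist j i (Ne.symm hij)
  set τ : Fin k → G → ℂ := fun i => indFun T (lin (θ i) - lin (θ i₀)) with hτ
  have hchar : ∀ i, IsCharacter G (indFun T (lin (θ i))) := fun i =>
    Cfsg.Agent.S0148.result T _ (Core.isIrr_isCharacter (H595.Central.isIrr_hom (θ i)))
  have hsub : ∀ i, τ i = indFun T (lin (θ i)) - indFun T (lin (θ i₀)) := by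
    intro i
    funext g
    rw [Pi.sub_apply, Core.indFun_apply, Core.indFun_apply, hτ]
    change indFun T (lin (θ i) - lin (θ i₀)) g = _
    rw [Core.indFun_apply, ← mul_sub, ← Finset.sum_sub_distrib]
    congr 1
    refine Finset.sum_congr rfl fun x _ => ?_
    by_cases hx : x⁻¹ * g * x ∈ T
    · rw [ext_apply_mem T _ _ hx, ext_apply_mem T _ _ hx, ext_apply_mem T _ _ hx]
      rfl
    · rw [ext_apply_not_mem T _ _ hx, ext_apply_not_mem T _ _ hx, ext_apply_not_mem T _ _ hx, sub_zero]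
  have hvan : ∀ i g, (∀ x : G, x * g * x⁻¹ ∈ T → x * g * x⁻¹ ∈ B) → τ i g = 0 := by
    intro i g hg
    change indFun T (lin (θ i) - lin (θ i₀)) g = 0
    rw [Core.indFun_apply, Finset.sum_eq_zero, mul_zero]
    intro x _
    by_cases hx : x⁻¹ * g * x ∈ T
    · rw [ext_apply_mem T _ _ hx, Pi.sub_apply]
      have hb := hg x⁻¹ (by rwa [inv_inv])
      rw [inv_inv] at hb
      unfold lin
      rw [hB i ⟨_, hx⟩ hb, hB i₀ ⟨_, hx⟩ hb, sub_self]
    · rw [ext_apply_not_mem T _ _ hx]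
  have hgram : ∀ i j, i ≠ i₀ → j ≠ i₀ → classInner (τ i) (τ j) = if i = j then 2 else 1 := by
    intro i j hi hj
    change classInner (indFun T (lin (θ i) - lin (θ i₀))) (indFun T (lin (θ j) - lin (θ i₀))) = _
    rw [h.inner_ind (fun t ht => by rw [hB i t ht, hB i₀ t ht]), Finset.sum_add_distrib, Finset.sum_sub_distrib,
      Finset.sum_sub_distrib, h.sum_reg (hreg i₀), sum_none h (hdist' i i₀ hi), sum_none h (hdist' i₀ j (Ne.symm hj))]
    by_cases hij : i = j
    · subst hij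
      rw [h.sum_reg (hreg i), if_pos rfl]
      field_simp
      ring
    · rw [sum_none h (hdist' i j hij), if_neg hij]
      field_simp
      ring
  obtain ⟨ε, hε, μ, hμ, hinj, hτμ⟩ := Cfsg.Agent.S0198.result k i₀ τ (by
      change indFun T (lin (θ i₀) - lin (θ i₀)) = 0
      funext g
      rw [sub_self, Core.indFun_apply, Finset.sum_eq_zero, mul_zero]
      · rfl
      · intro x _
        by_cases hx : x⁻¹ * g * x ∈ T
        · rw [ext_apply_mem T _ _ hx]; rfl
        · rw [ext_apply_not_mem T _ _ hx])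
    (fun i => ⟨_, _, hchar i, hchar i₀, hsub i⟩) (fun i => hvan i 1 fun x _ => by
      rw [mul_one, mul_inv_cancel]; exact B.one_mem) hgram
  have hε0 : ε ≠ 0 := by rcases hε with rfl | rfl <;> norm_num
  refine ⟨μ, hμ, hinj, fun i j g hg => ?_, fun hk z hzT hzB hz => ?_⟩
  · have key : ∀ i, μ i g = μ i₀ g := by
      intro i
      have h1 := hvan i g hg
      rw [hτμ i, Pi.smul_apply, Pi.sub_apply, smul_eq_mul] at h1
      rcases mul_eq_zero.1 h1 with h2 | h2
      · exact absurd h2 hε0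
      · exact sub_eq_zero.1 h2
    rw [key i, key j]
  · choose ω hω using fun i => char_mul_central (hμ i) hz
    have hinv : ∀ i g, τ i (g * z) = τ i g := by
      intro i g
      change indFun T (lin (θ i) - lin (θ i₀)) (g * z) = indFun T (lin (θ i) - lin (θ i₀)) g
      rw [Core.indFun_apply, Core.indFun_apply]
      congr 1
      refine Finset.sum_congr rfl fun x _ => ?_
      have e1 : x⁻¹ * (g * z) * x = x⁻¹ * g * x * z := by
        rw [mul_assoc, mul_assoc g z x, hz x]; group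
      rw [e1]
      by_cases hx : x⁻¹ * g * x ∈ T
      · rw [ext_apply_mem T _ _ hx, ext_apply_mem T _ _ (T.mul_mem hx hzT), Pi.sub_apply, Pi.sub_apply]
        have e2 : ∀ i, θ i ⟨x⁻¹ * g * x * z, T.mul_mem hx hzT⟩ = θ i ⟨x⁻¹ * g * x, hx⟩ := by
          intro i
          have e3 : (⟨x⁻¹ * g * x * z, T.mul_mem hx hzT⟩ : T) = ⟨x⁻¹ * g * x, hx⟩ * ⟨z, hzT⟩ := rfl
          rw [e3, map_mul, hB i ⟨z, hzT⟩ hzB, mul_one]
        unfold lin
        rw [e2, e2]
      · rw [ext_apply_not_mem T _ _ hx, ext_apply_not_mem T _ _ fun h1 => hx ?_]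
        have := T.mul_mem h1 (T.inv_mem hzT)
        rwa [mul_inv_cancel_right] at this
    have hom : ∀ i, i ≠ i₀ → ω i = 1 ∧ ω i₀ = 1 := by
      intro i hi
      have e1 : (fun g => ω i * μ i g - ω i₀ * μ i₀ g) = μ i - μ i₀ := by
        funext g
        have h1 := hinv i g
        rw [hτμ i, Pi.smul_apply, Pi.sub_apply, Pi.smul_apply, Pi.sub_apply, smul_eq_mul, smul_eq_mul, hω, hω] at h1
        exact mul_left_cancel₀ hε0 h1
      have e2 : (fun g => ω i * μ i g - ω i₀ * μ i₀ g) = ω i • μ i - ω i₀ • μ i₀ := rfl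
      rw [e2] at e1
      have hii : classInner (μ i) (μ i₀) = 0 := Core.classInner_irr_ne (hμ i) (hμ i₀) fun he => hi (hinj he)
      have hii' : classInner (μ i₀) (μ i) = 0 := Core.classInner_irr_ne (hμ i₀) (hμ i) fun he => hi (hinj he.symm)
      have a1 := congrArg (fun f => classInner f (μ i)) e1
      have a2 := congrArg (fun f => classInner f (μ i₀)) e1
      simp only [Core.classInner_sub_left, Core.classInner_smul_left, Core.classInner_irr_self (hμ i),
        Core.classInner_irr_self (hμ i₀), hii, hii', mul_one, mul_zero, sub_zero, zero_sub, neg_inj] at a1 a2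
      exact ⟨a1, a2⟩
    have hom' : ∀ i, ω i = 1 := by
      intro i
      by_cases hi : i = i₀
      · subst hi
        obtain ⟨j, hj⟩ : ∃ j : Fin k, j ≠ i := by
          have : Nontrivial (Fin k) := Fin.nontrivial_iff_two_le.2 hk
          exact exists_ne i
        exact (hom j hj).2
      · exact (hom i hi).1
    intro i
    have := hω i 1
    rwa [one_mul, hom' i, one_mul] at this

theorem Tor.cj_one (h : Tor T N B) (θ : T →* ℂˣ) : h.cj 1 θ = θ := by
  ext t
  rw [h.cj_apply]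
  congr 2
  apply Subtype.ext
  change (1 : G)⁻¹ * t * 1 = t
  group

theorem Tor.cj_mul (h : Tor T N B) (x y : N) (θ : T →* ℂˣ) : h.cj (x * y) θ = h.cj x (h.cj y θ) := by
  ext t
  rw [h.cj_apply, h.cj_apply, h.cj_apply]
  congr 2
  apply Subtype.ext
  change ((x : G) * y)⁻¹ * t * (x * y) = (y : G)⁻¹ * ((x : G)⁻¹ * t * x) * y
  group

theorem Tor.cj_of_mem (h : Tor T N B) {x : N} (hx : (x : G) ∈ T) (θ : T →* ℂˣ) : h.cj x θ = θ := by
  ext t
  rw [h.cj_apply]
  congr 2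
  apply Subtype.ext
  change (x : G)⁻¹ * t * x = t
  rw [mul_assoc, h.comm t t.2 x hx, inv_mul_cancel_left]

theorem Tor.cj_congr (h : Tor T N B) {x y : N} (hxy : (x : G)⁻¹ * y ∈ T) (θ : T →* ℂˣ) : h.cj x θ = h.cj y θ := by
  have h1 : y = x * (x⁻¹ * y) := by group
  rw [h1, h.cj_mul, h.cj_of_mem (x := x⁻¹ * y) hxy]

/-- **the family of exceptional characters** -/
theorem exists_family (h : Tor T N B) [Fintype G] {C : Type*} [CommGroup C] [Finite C] [IsCyclic C] (π : T →* C)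
    (hπ : Function.Surjective π) (hB : ∀ t : T, (t : G) ∈ B → π t = 1) {e : ℕ} (he : 0 < e)
    (hact : ∀ x : N, (x : G) ∉ T → ∃ m : ℕ, (∀ t : T, π ⟨(x : G)⁻¹ * t * x, h.norm' x.2 t.2⟩ = π t ^ m) ∧
      1 ≤ m ∧ Nat.gcd (m - 1) (Nat.card C) ∣ e)
    {κ : Type*} [Fintype κ] (f : N → κ) (hf : ∀ x y : N, f x = f y → (x : G)⁻¹ * y ∈ T) :
    ∃ (k : ℕ) (μ : Fin k → G → ℂ), Nat.card C ≤ Fintype.card κ * k + e ∧ (∀ i, IsIrrCharacter G (μ i)) ∧
      Function.Injective μ ∧ (∀ i j g, (∀ x : G, x * g * x⁻¹ ∈ T → x * g * x⁻¹ ∈ B) → μ i g = μ j g) ∧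
      (2 ≤ k → ∀ z ∈ T, z ∈ B → (∀ g, z * g = g * z) → ∀ i, μ i z = μ i 1) := by
  classical
  obtain ⟨dual⟩ := CommGroup.monoidHom_mulEquiv_of_hasEnoughRootsOfUnity C ℂ
  have : Finite (C →* ℂˣ) := Finite.of_equiv _ dual.symm.toEquiv
  let _ : Fintype (C →* ℂˣ) := Fintype.ofFinite _
  have hcard : Fintype.card (C →* ℂˣ) = Nat.card C := by
    rw [← Nat.card_eq_fintype_card]
    exact Nat.card_congr dual.toEquiv
  let R : Finset (C →* ℂˣ) := Finset.univ.filter fun η => ¬ ∀ c, η c ^ e = 1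
  have hR : Nat.card C ≤ R.card + e := by
    have h1 : R.card + (Finset.univ.filter fun η : C →* ℂˣ => ¬ ¬ ∀ c, η c ^ e = 1).card = Nat.card C := by
      rw [← hcard, ← Finset.card_univ]
      exact Finset.card_filter_add_card_filter_not (s := (Finset.univ : Finset (C →* ℂˣ))) _
    have h2 : (Finset.univ.filter fun η : C →* ℂˣ => ¬ ¬ ∀ c, η c ^ e = 1).card ≤ e := by
      obtain ⟨g, hg⟩ := IsCyclic.exists_generator (α := C)
      have : NeZero e := ⟨he.ne'⟩
      let _ : Fintype (rootsOfUnity e ℂ) := Fintype.ofFinite _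
      have h3 : (Finset.univ.filter fun η : C →* ℂˣ => ¬ ¬ ∀ c, η c ^ e = 1).card ≤
          Nat.card (rootsOfUnity e ℂ) := by
        rw [← Fintype.card_coe, Nat.card_eq_fintype_card]
        refine Fintype.card_le_of_injective (fun η => ⟨η.1 g, ?_⟩) fun η η' hη => ?_
        · have h4 := (Finset.mem_filter.1 η.2).2
          rw [not_not] at h4
          exact h4 g
        · apply Subtype.ext
          have h4 : η.1 g = η'.1 g := congrArg Subtype.val hη
          refine MonoidHom.ext fun c => ?_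
          obtain ⟨i, rfl⟩ := Subgroup.mem_zpowers_iff.1 (hg c)
          rw [map_zpow, map_zpow, h4]
      exact h3.trans (card_rootsOfUnity ℂ e)
    omega
  let orb : (C →* ℂˣ) → Set (T →* ℂˣ) := fun η => {θ | ∃ x : N, h.cj x (η.comp π) = θ}
  have hfib : R.card ≤ Fintype.card κ * (R.image orb).card := by
    refine Finset.card_le_mul_card_image R _ fun O hO => ?_
    obtain ⟨η, hη, rfl⟩ := Finset.mem_image.1 hO
    have h1 : ∀ η' ∈ R.filter (fun x => orb x = orb η), ∃ x : N, h.cj x (η.comp π) = η'.comp π := by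
      intro η' hη'
      have h2 : η'.comp π ∈ orb η' := ⟨1, h.cj_one _⟩
      rw [(Finset.mem_filter.1 hη').2] at h2
      exact h2
    choose! x hx using h1
    refine Finset.card_le_card_of_injOn (fun η' => f (x η')) (fun _ _ => Finset.mem_univ _) ?_ |>.trans_eq
      Finset.card_univ
    intro a ha b hb hab
    have h2 := h.cj_congr (hf _ _ hab) (η.comp π)
    rw [hx a ha, hx b hb] at h2
    refine MonoidHom.ext fun c => ?_
    obtain ⟨t, rfl⟩ := hπ c
    exact DFunLike.congr_fun h2 t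
  let k := (R.image orb).card
  let en : Fin k ≃ R.image orb := (Finset.equivFin _).symm
  have hrep : ∀ i : Fin k, ∃ η ∈ R, orb η = (en i).1 := fun i => by
    obtain ⟨η, hη, hη'⟩ := Finset.mem_image.1 (en i).2
    exact ⟨η, hη, hη'⟩
  choose η hηR hηo using hrep
  have hk : Nat.card C ≤ Fintype.card κ * k + e := hR.trans (Nat.add_le_add_right hfib e)
  rcases Nat.eq_zero_or_pos k with hk0 | hk0
  · refine ⟨0, Fin.elim0, by rw [hk0] at hk; exact hk, fun i => i.elim0, fun i => i.elim0, fun i => i.elim0,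
      fun h2 => by omega⟩
  obtain ⟨μ, h1, h2, h3, h4⟩ := exists_chars h (⟨0, hk0⟩ : Fin k) (fun i => (η i).comp π)
    (fun i t ht => by rw [MonoidHom.comp_apply, hB t ht, map_one])
    (fun i x hx => by
      by_contra hxT
      obtain ⟨m, hm, hm1, hm2⟩ := hact x hxT
      apply (Finset.mem_filter.1 (hηR i)).2
      intro c
      have h5 : η i c ^ m = η i c := by
        obtain ⟨t, rfl⟩ := hπ c
        have h6 := DFunLike.congr_fun hx t
        rw [h.cj_apply, MonoidHom.comp_apply, MonoidHom.comp_apply, hm, map_pow] at h6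
        exact h6
      have h6 : η i c ^ (m - 1) = 1 := by
        have h7 : η i c ^ (m - 1) * η i c = 1 * η i c := by
          rw [one_mul, ← pow_succ, Nat.sub_add_cancel hm1, h5]
        exact mul_right_cancel h7
      have h7 : η i c ^ Nat.card C = 1 := by
        rw [← map_pow, pow_card_eq_one', map_one]
      have h8 : orderOf (η i c) ∣ e :=
        (Nat.dvd_gcd (orderOf_dvd_of_pow_eq_one h6) (orderOf_dvd_of_pow_eq_one h7)).trans hm2
      exact orderOf_dvd_iff_pow_eq_one.1 h8)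
    (fun i j hij x hx => by
      apply hij
      apply en.injective
      apply Subtype.ext
      rw [← hηo i, ← hηo j]
      ext θ
      constructor
      · rintro ⟨y, rfl⟩
        refine ⟨y * x⁻¹, ?_⟩
        rw [← hx, ← h.cj_mul, inv_mul_cancel_right]
      · rintro ⟨y, rfl⟩
        exact ⟨y * x, by rw [h.cj_mul, hx]⟩)
  exact ⟨k, μ, hk, h1, h2, h3, h4⟩

end Cfsg.Agent.H113.Cusp.Exc
end

-- part: H113/Cusp/TorFus
section
prune_inst 0x1000650566400200401c050060001cf3b3000022004b0000880400040dc98c0120000621b2300010101008c4603c004000100020020000000a0004000118008000800000a008000840001e00010001000000000000000000000080000000000000c010000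
set_option linter.all false
open scoped Cfsg.Agent.FastGrp

-- part: H113/Cusp/Torus
section
/-!
# The torus `μ_{q^m+1} × μ_{q+1}^d` of `GU_{m+d}(q)`, `m` an odd prime, `d ≤ 1` (helper113)
-/

set_option autoImplicit false
set_option linter.unusedSectionVars false
set_option linter.style.haveILetI false

open scoped ComplexConjugate
open Cfsg

namespace Cfsg.Agent.H113.Cusp.Torus

open Module Cfsg.Agent.H477.HC Cfsg.Agent.H477.HC.CForm Cfsg.Agent.H749

universe u

/-- the form on `L × (Fin d → K)` -/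
noncomputable def bf {K : Type u} [Field K] {L : Type} [Field L] [Algebra K L] (q m d : ℕ)
    (x y : L × (Fin d → K)) : K :=
  Algebra.trace K L (x.1 * y.1 ^ (q ^ m)) + hermForm d K q x.2 y.2

section form

variable {K : Type u} [Field K] [Fintype K] {q : ℕ} (hF : Fintype.card K = q ^ 2) {L : Type} [Field L] [Algebra K L]
  [Finite L] {m : ℕ} (hm : Odd m) (hL : Nat.card L = Nat.card K ^ m) {σ : K →+* K} (hσ : ∀ x, σ x = x ^ q)

include hF hm hL hσ

theorem hermF_bf (d : ℕ) : HermF σ (bf (K := K) (L := L) q m d) := by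
  have h1 := hermF_odd hF hm hL hσ
  have h0 := hermForm_hermF hF hσ d
  refine ⟨fun u u' v => ?_, fun c u v => ?_, fun u v => ?_, fun u hu => ?_⟩
  · unfold bf
    rw [Prod.fst_add, Prod.snd_add, h0.add]
    have := h1.add u.1 u'.1 v.1
    rw [this]
    ring
  · unfold bf
    rw [Prod.smul_fst, Prod.smul_snd, h0.smul]
    have := h1.smul c u.1 v.1
    rw [this]
    ring
  · unfold bf
    rw [map_add, ← h0.symm]
    have := h1.symm u.1 v.1
    rw [this]
  · refine Prod.ext (h1.nd _ fun w => ?_) (h0.nd _ fun w => ?_)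
    · have h2 := hu (w, 0)
      unfold bf at h2
      rw [h0.zero_right, add_zero] at h2
      exact h2
    · have h2 := hu (0, w)
      unfold bf at h2
      have h3 := h1.zero_right u.1
      rw [h3, zero_add] at h2
      exact h2

theorem exists_j {d n : ℕ} (hn : m + d = n) (hfr : finrank K L = m) :
    ∃ j : (Fin n → K) ≃ₗ[K] L × (Fin d → K), ∀ x y, bf q m d (j x) (j y) = hermForm n K q x y := by
  have hfin : Module.Finite K L := Module.Finite.of_finite
  exact (hermF_bf hF hm hL hσ d).exists_iso (sigma_ne hF hσ) (sigma_sigma hF hσ) hσ (by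
    rw [finrank_prod, hfr, finrank_fin_fun, hn])

end form

/-- the data -/
structure Dat (K : Type u) [Field K] [Finite K] (q : ℕ) (hq : Nat.card K = q ^ 2) (L : Type) [Field L] [Algebra K L]
    (m d n : ℕ) : Type u where
  finL : Finite L
  hm : m.Prime
  hm2 : m ≠ 2
  hd : d ≤ 1
  hfr : finrank K L = m
  j : (Fin n → K) ≃ₗ[K] L × (Fin d → K)
  hj : ∀ x y, bf q m d (j x) (j y) = hermForm n K q x y

theorem exists_dat (K : Type u) [Field K] [Finite K] (q : ℕ) (hq : Nat.card K = q ^ 2) {m d n : ℕ} (hm : m.Prime)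
    (hm2 : m ≠ 2) (hd : d ≤ 1) (hn : m + d = n) :
    ∃ (L : Type) (_ : Field L) (_ : Algebra K L), Nonempty (Dat K q hq L m d n) := by
  have := Fintype.ofFinite K
  have hF : Fintype.card K = q ^ 2 := by rw [← Nat.card_eq_fintype_card, hq]
  obtain ⟨L, i1, i2, i3, hL, hfr⟩ := exists_ext K m hm.ne_zero
  have hmo : Odd m := hm.odd_of_ne_two hm2
  obtain ⟨j, hj⟩ := exists_j hF hmo hL (σ := powHom hq) (fun x => powHom_apply hq x) hn hfr
  exact ⟨L, i1, i3, ⟨⟨i2, hm, hm2, hd, hfr, j, hj⟩⟩⟩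

variable {K : Type u} [Field K] [Finite K] {q : ℕ} {hq : Nat.card K = q ^ 2} {L : Type} [Field L] [Algebra K L]
  {m d n : ℕ} (D : Dat K q hq L m d n)

abbrev G (K : Type u) [Field K] [Finite K] {q : ℕ} (hq : Nat.card K = q ^ 2) (n : ℕ) : Subgroup ((Fin n → K) ≃ₗ[K] (Fin n → K)) :=
  (hermF K hq n).iso

/-- `g` is `(x, y) ↦ (w τ(x), c y)` -/
def Dat.Sem (g : G K hq n) (τ : L ≃ₐ[K] L) (w : Lˣ) (c : Kˣ) : Prop :=
  ∀ v : Fin n → K, D.j ((g : (Fin n → K) ≃ₗ[K] (Fin n → K)) v) = ((w : L) * τ (D.j v).1, (c : K) • (D.j v).2)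

theorem Dat.sem_one : D.Sem 1 1 1 1 := by
  intro v
  rw [Units.val_one, Units.val_one, one_mul, one_smul]
  rfl

theorem Dat.sem_mul {g h : G K hq n} {τ τ' : L ≃ₐ[K] L} {w w' : Lˣ} {c c' : Kˣ} (h1 : D.Sem g τ w c)
    (h2 : D.Sem h τ' w' c') : D.Sem (g * h) (τ * τ') (w * Units.map (τ : L →* L) w') (c * c') := by
  intro v
  have e1 : D.j (((g * h : G K hq n) : (Fin n → K) ≃ₗ[K] (Fin n → K)) v) =
    D.j ((g : (Fin n → K) ≃ₗ[K] (Fin n → K)) ((h : (Fin n → K) ≃ₗ[K] (Fin n → K)) v)) := rfl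
  rw [e1, h1, h2]
  refine Prod.ext ?_ ?_
  · change (w : L) * τ ((w' : L) * τ' (D.j v).1) = ((w : L) * τ (w' : L)) * τ (τ' (D.j v).1)
    rw [map_mul, mul_assoc]
  · change (c : K) • (c' : K) • (D.j v).2 = ((c : K) * c') • (D.j v).2
    rw [smul_smul]

theorem Dat.sem_inv {g : G K hq n} {τ : L ≃ₐ[K] L} {w : Lˣ} {c : Kˣ} (h : D.Sem g τ w c) :
    D.Sem g⁻¹ τ⁻¹ (Units.map ((τ⁻¹ : L ≃ₐ[K] L) : L →* L) w⁻¹) c⁻¹ := by
  intro v
  obtain ⟨u, rfl⟩ : ∃ u, (g : (Fin n → K) ≃ₗ[K] (Fin n → K)) u = v := (g : (Fin n → K) ≃ₗ[K] (Fin n → K)).surjective v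
  have e1 : ((g⁻¹ : G K hq n) : (Fin n → K) ≃ₗ[K] (Fin n → K)) ((g : (Fin n → K) ≃ₗ[K] (Fin n → K)) u) = u :=
    (g : (Fin n → K) ≃ₗ[K] (Fin n → K)).symm_apply_apply u
  rw [e1, h]
  refine Prod.ext ?_ ?_
  · change (D.j u).1 = (τ⁻¹ ((w⁻¹ : Lˣ) : L)) * τ⁻¹ ((w : L) * τ (D.j u).1)
    rw [← map_mul, ← mul_assoc, ← Units.val_mul, inv_mul_cancel, Units.val_one, one_mul]
    exact (τ.symm_apply_apply _).symm
  · change (D.j u).2 = ((c⁻¹ : Kˣ) : K) • (c : K) • (D.j u).2
    rw [smul_smul, ← Units.val_mul, inv_mul_cancel, Units.val_one, one_smul]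

/-- the normaliser of the torus -/
def Dat.N : Subgroup (G K hq n) where
  carrier := {g | ∃ τ w c, D.Sem g τ w c}
  one_mem' := ⟨_, _, _, D.sem_one⟩
  mul_mem' := by
    rintro a b ⟨τ, w, c, h⟩ ⟨τ', w', c', h'⟩
    exact ⟨_, _, _, D.sem_mul h h'⟩
  inv_mem' := by
    rintro a ⟨τ, w, c, h⟩
    exact ⟨_, _, _, D.sem_inv h⟩

/-- the torus -/
def Dat.T : Subgroup (G K hq n) where
  carrier := {g | ∃ w c, D.Sem g 1 w c}
  one_mem' := ⟨_, _, D.sem_one⟩
  mul_mem' := by
    rintro a b ⟨w, c, h⟩ ⟨w', c', h'⟩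
    exact ⟨_, _, D.sem_mul h h'⟩
  inv_mem' := by
    rintro a ⟨w, c, h⟩
    have := D.sem_inv h
    rw [inv_one] at this
    exact ⟨_, _, this⟩

/-- the elements acting on `L` by scalars of `K` -/
def Dat.B : Subgroup (G K hq n) where
  carrier := {g | ∃ a c : Kˣ, D.Sem g 1 (Units.map (algebraMap K L : K →* L) a) c}
  one_mem' := ⟨1, 1, by rw [map_one]; exact D.sem_one⟩
  mul_mem' := by
    rintro a b ⟨w, c, h⟩ ⟨w', c', h'⟩
    refine ⟨w * w', c * c', ?_⟩
    have := D.sem_mul h h'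
    rw [map_mul]
    exact this
  inv_mem' := by
    rintro a ⟨w, c, h⟩
    refine ⟨w⁻¹, c⁻¹, ?_⟩
    have := D.sem_inv h
    rw [inv_one] at this
    rw [map_inv]
    exact this

theorem Dat.sem_uniq {g : G K hq n} {τ τ' : L ≃ₐ[K] L} {w w' : Lˣ} {c c' : Kˣ} (h : D.Sem g τ w c)
    (h' : D.Sem g τ' w' c') : w = w' ∧ τ = τ' := by
  have h1 : ∀ x : L, (w : L) * τ x = (w' : L) * τ' x := by
    intro x
    have e1 := h (D.j.symm (x, 0))
    have e2 := h' (D.j.symm (x, 0))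
    rw [e1] at e2
    have e3 := congrArg Prod.fst e2
    simpa using e3
  have h2 : w = w' := by
    apply Units.ext
    have := h1 1
    rwa [map_one, map_one, mul_one, mul_one] at this
  subst h2
  refine ⟨rfl, AlgEquiv.ext fun x => ?_⟩
  exact mul_left_cancel₀ w.ne_zero (h1 x)

/-- the first eigenvalue -/
theorem Dat.w_pow {g : G K hq n} {w : Lˣ} {c : Kˣ} (h : D.Sem g 1 w c) : w ^ (q ^ m + 1) = 1 := by
  have := D.finL
  have := Fintype.ofFinite K
  have hF : Fintype.card K = q ^ 2 := by rw [← Nat.card_eq_fintype_card, hq]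
  have hfin : Module.Finite K L := Module.Finite.of_finite
  have hL : Nat.card L = Nat.card K ^ m := by
    have := Module.natCard_eq_pow_finrank (K := K) (V := L)
    rw [this, D.hfr]
  have hmo : Odd m := D.hm.odd_of_ne_two D.hm2
  have hH := hermF_odd hF hmo hL (σ := powHom hq) (fun x => powHom_apply hq x)
  have h1 : ∀ x y : L, Algebra.trace K L ((w : L) * x * ((w : L) * y) ^ (q ^ m)) = Algebra.trace K L (x * y ^ (q ^ m)) := by
    intro x y
    have e1 := D.hj ((g : (Fin n → K) ≃ₗ[K] (Fin n → K)) (D.j.symm (x, 0)))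
      ((g : (Fin n → K) ≃ₗ[K] (Fin n → K)) (D.j.symm (y, 0)))
    have e2 := D.hj (D.j.symm (x, 0)) (D.j.symm (y, 0))
    have e3 := (hermF K hq n).iso_B g (D.j.symm (x, 0)) (D.j.symm (y, 0))
    change hermForm n K q _ _ = hermForm n K q _ _ at e3
    rw [e3, ← e2, h, h, D.j.apply_symm_apply, D.j.apply_symm_apply] at e1
    unfold bf at e1
    simpa [hermForm] using e1
  have h2 : ∀ x : L, Algebra.trace K L (((w : L) * (w : L) ^ (q ^ m) - 1) * x) = 0 := by
    intro x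
    have e1 := h1 x 1
    rw [mul_one, one_pow, mul_one] at e1
    rw [sub_mul, map_sub, one_mul, ← e1, sub_eq_zero]
    congr 1
    ring
  have h3 : (w : L) * (w : L) ^ (q ^ m) - 1 = 0 := trace_nondeg (F := K) h2
  apply Units.ext
  rw [Units.val_pow_eq_pow_val, Units.val_one, pow_succ']
  exact sub_eq_zero.1 h3

end Cfsg.Agent.H113.Cusp.Torus
end

-- part: H113/Cusp/TorFus
section
/-!
# The torus is a fusion-controlled abelian subgroup (helper113)
-/

set_option autoImplicit false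
set_option linter.unusedSectionVars false
set_option linter.style.haveILetI false

open scoped ComplexConjugate
open Cfsg

namespace Cfsg.Agent.H113.Cusp.Torus

open Module Cfsg.Agent.H477.HC Cfsg.Agent.H477.HC.CForm Cfsg.Agent.H749 Cfsg.Agent.H113.Cusp.Exc

universe u

variable {K : Type u} [Field K] {L : Type} [Field L] [Algebra K L]

theorem exists_aeval [FiniteDimensional K L] (hfr : (finrank K L).Prime) {u : L} (hu : ∀ a : K, algebraMap K L a ≠ u)
    (x : L) : ∃ P : Polynomial K, Polynomial.aeval u P = x := by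
  have := Subalgebra.isSimpleOrder_of_finrank_prime K L hfr
  have h1 : Algebra.adjoin K {u} = ⊤ := by
    rcases IsSimpleOrder.eq_bot_or_eq_top (Algebra.adjoin K {u}) with h | h
    · exfalso
      have h2 : u ∈ Algebra.adjoin K {u} := Algebra.subset_adjoin rfl
      rw [h, Algebra.mem_bot] at h2
      obtain ⟨a, ha⟩ := h2
      exact hu a ha
    · exact h
  have h2 : x ∈ Algebra.adjoin K {u} := by rw [h1]; trivial
  rw [Algebra.adjoin_singleton_eq_range_aeval] at h2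
  obtain ⟨P, hP⟩ := h2
  exact ⟨P, hP⟩

theorem aeval_of {u u' : L} (A : L →ₗ[K] L) (hA : ∀ x, A (u * x) = u' * A x) (P : Polynomial K) (x : L) :
    A (Polynomial.aeval u P * x) = Polynomial.aeval u' P * A x := by
  have hk : ∀ (k : ℕ) (x : L), A (u ^ k * x) = u' ^ k * A x := by
    intro k
    induction k with
    | zero => intro x; rw [pow_zero, one_mul, pow_zero, one_mul]
    | succ k ih => intro x; rw [pow_succ, mul_assoc, ih, hA, pow_succ, mul_assoc]
  induction P using Polynomial.induction_on' with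
  | add P Q hP hQ => rw [map_add, add_mul, map_add, hP, hQ, map_add, add_mul]
  | monomial k a =>
    rw [Polynomial.aeval_monomial, Polynomial.aeval_monomial, mul_assoc, ← Algebra.smul_def, map_smul, hk, mul_assoc,
      ← Algebra.smul_def]

theorem semi_of [FiniteDimensional K L] (hfr : (finrank K L).Prime) {u u' : L} (hu : ∀ a : K, algebraMap K L a ≠ u)
    (A : L →ₗ[K] L) (hA : ∀ x, A (u * x) = u' * A x) (hinj : Function.Injective A) :
    ∃ (τ : L ≃ₐ[K] L) (w : Lˣ), ∀ x, A x = w * τ x := by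
  have hw : A 1 ≠ 0 := by
    intro h
    exact one_ne_zero (hinj (h.trans (map_zero A).symm))
  have hmul : ∀ a b : L, A (a * b) = A a * (A 1)⁻¹ * A b := by
    intro a b
    obtain ⟨P, rfl⟩ := exists_aeval hfr hu a
    have h1 := aeval_of A hA P 1
    rw [mul_one] at h1
    rw [aeval_of A hA, h1, mul_assoc (Polynomial.aeval u' P), mul_inv_cancel₀ hw, mul_one]
  let τ : L →ₐ[K] L := {
    toFun := fun a => (A 1)⁻¹ * A a
    map_one' := inv_mul_cancel₀ hw
    map_mul' := fun a b => by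
      change (A 1)⁻¹ * A (a * b) = (A 1)⁻¹ * A a * ((A 1)⁻¹ * A b)
      rw [hmul]
      ring
    map_zero' := by
      change (A 1)⁻¹ * A 0 = 0
      rw [map_zero, mul_zero]
    map_add' := fun a b => by
      change (A 1)⁻¹ * A (a + b) = (A 1)⁻¹ * A a + (A 1)⁻¹ * A b
      rw [map_add, mul_add]
    commutes' := fun r => by
      change (A 1)⁻¹ * A (algebraMap K L r) = algebraMap K L r
      rw [Algebra.algebraMap_eq_smul_one, map_smul, mul_smul_comm, inv_mul_cancel₀ hw] }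
  have hτ : ∀ a, τ a = (A 1)⁻¹ * A a := fun a => rfl
  have hτi : Function.Injective τ := by
    intro a b hab
    rw [hτ, hτ] at hab
    exact hinj (mul_left_cancel₀ (inv_ne_zero hw) hab)
  have hτs : Function.Surjective τ := (LinearMap.injective_iff_surjective (f := τ.toLinearMap)).1 hτi
  refine ⟨AlgEquiv.ofBijective τ ⟨hτi, hτs⟩, Units.mk0 _ hw, fun x => ?_⟩
  change A x = A 1 * ((A 1)⁻¹ * A x)
  rw [mul_inv_cancel_left₀ hw]

/-- a linear map on a space of dimension at most one is a scalar -/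
theorem scal_of {d : ℕ} (hd : d ≤ 1) (f : (Fin d → K) →ₗ[K] (Fin d → K)) (hf : Function.Injective f) :
    ∃ c : Kˣ, ∀ y, f y = (c : K) • y := by
  rcases Nat.eq_zero_or_pos d with rfl | hd0
  · refine ⟨1, fun y => ?_⟩
    apply Subsingleton.elim
  obtain rfl : d = 1 := by omega
  have h1 : ∀ y : Fin 1 → K, y = y 0 • (fun _ => 1) := by
    intro y
    ext i
    obtain rfl : i = 0 := Subsingleton.elim _ _
    simp
  have h2 : f (fun _ => 1) 0 ≠ 0 := by
    intro h
    have h3 : f (fun _ => 1) = 0 := by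
      rw [h1 (f _), h, zero_smul]
    have h4 := hf (h3.trans (map_zero f).symm)
    exact one_ne_zero (congrFun h4 0)
  refine ⟨Units.mk0 _ h2, fun y => ?_⟩
  conv_lhs => rw [h1 y, map_smul, h1 (f _)]
  rw [Units.val_mk0, smul_comm, ← h1]

variable [Finite K] {q : ℕ} {hq : Nat.card K = q ^ 2} {m d n : ℕ} (D : Dat K q hq L m d n)

include D in
theorem Dat.fd : FiniteDimensional K L := by
  have := D.finL
  exact Module.Finite.of_finite

theorem Dat.not_mem_B {g : G K hq n} {u : Lˣ} {c : Kˣ} (h : D.Sem g 1 u c) (hB : g ∉ D.B) (a : K) :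
    algebraMap K L a ≠ u := by
  intro ha
  have ha0 : a ≠ 0 := by
    rintro rfl
    rw [map_zero] at ha
    exact u.ne_zero ha.symm
  apply hB
  refine ⟨Units.mk0 a ha0, c, ?_⟩
  have : Units.map (algebraMap K L : K →* L) (Units.mk0 a ha0) = u := Units.ext ha
  rwa [this]

/-- the linear map of `L × K^d` of an isometry -/
noncomputable def Dat.ga (g : G K hq n) : (L × (Fin d → K)) ≃ₗ[K] (L × (Fin d → K)) :=
  D.j.symm ≪≫ₗ ((g : (Fin n → K) ≃ₗ[K] (Fin n → K)) ≪≫ₗ D.j)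

theorem Dat.ga_apply (g : G K hq n) (v : Fin n → K) :
    D.ga g (D.j v) = D.j ((g : (Fin n → K) ≃ₗ[K] (Fin n → K)) v) := by
  change D.j ((g : (Fin n → K) ≃ₗ[K] (Fin n → K)) (D.j.symm (D.j v))) = _
  rw [D.j.symm_apply_apply]

theorem Dat.ga_sem {g : G K hq n} {τ : L ≃ₐ[K] L} {w : Lˣ} {c : Kˣ} (h : D.Sem g τ w c) (x : L × (Fin d → K)) :
    D.ga g x = ((w : L) * τ x.1, (c : K) • x.2) := by
  obtain ⟨v, rfl⟩ := D.j.surjective x
  rw [D.ga_apply, h v]

theorem Dat.ga_mul (g h : G K hq n) (x : L × (Fin d → K)) : D.ga (g * h) x = D.ga g (D.ga h x) := by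
  obtain ⟨v, rfl⟩ := D.j.surjective x
  rw [D.ga_apply, D.ga_apply, D.ga_apply]
  rfl

theorem Dat.fus {t : G K hq n} (ht : t ∈ D.T) (htB : t ∉ D.B) {g : G K hq n} (hg : g * t * g⁻¹ ∈ D.T) : g ∈ D.N := by
  have := D.fd
  obtain ⟨u, c, hu⟩ := ht
  obtain ⟨u', c', hu'⟩ := hg
  have huK := D.not_mem_B hu htB
  have hfr : (finrank K L).Prime := by rw [D.hfr]; exact D.hm
  -- commutation
  have h1 : ∀ x : L × (Fin d → K), D.ga g ((u : L) * x.1, (c : K) • x.2) =
      ((u' : L) * (D.ga g x).1, (c' : K) • (D.ga g x).2) := by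
    intro x
    have e1 : D.ga (g * t * g⁻¹ * g) x = D.ga (g * t) x := by rw [inv_mul_cancel_right]
    rw [D.ga_mul, D.ga_sem hu', D.ga_mul, D.ga_sem hu] at e1
    exact e1.symm
  -- the parts
  let A : L →ₗ[K] L := LinearMap.fst K L (Fin d → K) ∘ₗ (D.ga g : (L × (Fin d → K)) →ₗ[K] (L × (Fin d → K))) ∘ₗ
    LinearMap.inl K L (Fin d → K)
  let Bc : L →ₗ[K] (Fin d → K) := LinearMap.snd K L (Fin d → K) ∘ₗ
    (D.ga g : (L × (Fin d → K)) →ₗ[K] (L × (Fin d → K))) ∘ₗ LinearMap.inl K L (Fin d → K)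
  let A' : (Fin d → K) →ₗ[K] L := LinearMap.fst K L (Fin d → K) ∘ₗ
    (D.ga g : (L × (Fin d → K)) →ₗ[K] (L × (Fin d → K))) ∘ₗ LinearMap.inr K L (Fin d → K)
  let E : (Fin d → K) →ₗ[K] (Fin d → K) := LinearMap.snd K L (Fin d → K) ∘ₗ
    (D.ga g : (L × (Fin d → K)) →ₗ[K] (L × (Fin d → K))) ∘ₗ LinearMap.inr K L (Fin d → K)
  have hAB : ∀ x : L, D.ga g (x, 0) = (A x, Bc x) := fun x => rfl
  have hAE : ∀ y : Fin d → K, D.ga g (0, y) = (A' y, E y) := fun y => rfl
  have hL : ∀ x : L, A ((u : L) * x) = u' * A x ∧ Bc ((u : L) * x) = (c' : K) • Bc x := by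
    intro x
    have := h1 (x, 0)
    rw [smul_zero, hAB, hAB] at this
    exact ⟨congrArg Prod.fst this, congrArg Prod.snd this⟩
  have hY : ∀ y, A' ((c : K) • y) = u' * A' y := by
    intro y
    have := h1 (0, y)
    rw [mul_zero, hAE, hAE] at this
    exact congrArg Prod.fst this
  have hB0 : ∀ x, Bc x = 0 := by
    intro x
    have hne : (u : L) - algebraMap K L c' ≠ 0 := sub_ne_zero.2 (huK c').symm
    have e1 : Bc (((u : L) - algebraMap K L c') * (((u : L) - algebraMap K L c')⁻¹ * x)) = 0 := by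
      rw [sub_mul, map_sub, (hL _).2, ← Algebra.smul_def, map_smul, sub_self]
    rwa [mul_inv_cancel_left₀ hne] at e1
  have hAi : Function.Injective A := by
    intro a b hab
    have e1 : D.ga g (a, 0) = D.ga g (b, 0) := by rw [hAB, hAB, hB0, hB0, hab]
    exact congrArg Prod.fst ((D.ga g).injective e1)
  obtain ⟨τ, w, hτ⟩ := semi_of hfr huK A (fun x => (hL x).1) hAi
  have hA0 : ∀ y, A' y = 0 := by
    intro y
    have hne : (u' : L) - algebraMap K L c ≠ 0 := by
      intro h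
      have e1 : (u' : L) = algebraMap K L c := sub_eq_zero.1 h
      have e2 := (hL 1).1
      rw [mul_one, e1, ← Algebra.smul_def, ← map_smul] at e2
      have e3 := hAi e2
      apply huK c
      rw [e3, Algebra.algebraMap_eq_smul_one]
    have e1 : ((u' : L) - algebraMap K L c) * A' y = 0 := by
      rw [sub_mul, ← hY, map_smul, ← Algebra.smul_def, sub_self]
    exact (mul_eq_zero.1 e1).resolve_left hne
  have hEi : Function.Injective E := by
    intro a b hab
    have e1 : D.ga g (0, a) = D.ga g (0, b) := by rw [hAE, hAE, hA0, hA0, hab]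
    exact congrArg Prod.snd ((D.ga g).injective e1)
  obtain ⟨c₀, hc₀⟩ := scal_of D.hd E hEi
  refine ⟨τ, w, c₀, fun v => ?_⟩
  rw [← D.ga_apply]
  have e1 : D.j v = ((D.j v).1, 0) + (0, (D.j v).2) := by
    rw [Prod.mk_add_mk, add_zero, zero_add]
  conv_lhs => rw [e1, map_add, hAB, hAE, hB0, hA0, hτ, hc₀, Prod.mk_add_mk, add_zero, zero_add]

theorem Dat.T_le : D.T ≤ D.N := by
  rintro g ⟨w, c, h⟩
  exact ⟨1, w, c, h⟩

theorem Dat.ext_j {g h : G K hq n} (H : ∀ v, D.j ((g : (Fin n → K) ≃ₗ[K] (Fin n → K)) v) =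
    D.j ((h : (Fin n → K) ≃ₗ[K] (Fin n → K)) v)) : g = h := by
  apply Subtype.ext
  ext1 v
  exact D.j.injective (H v)

theorem Dat.eq_of_sem {g h : G K hq n} {τ : L ≃ₐ[K] L} {w : Lˣ} {c : Kˣ} (h1 : D.Sem g τ w c)
    (h2 : D.Sem h τ w c) : g = h := by
  apply D.ext_j
  intro v
  rw [h1, h2]

/-- the conjugate of a torus element -/
theorem Dat.sem_conj {x t : G K hq n} {τ : L ≃ₐ[K] L} {w u : Lˣ} {c c' : Kˣ} (h1 : D.Sem x τ w c)
    (h2 : D.Sem t 1 u c') : D.Sem (x * t * x⁻¹) 1 (Units.map (τ : L →* L) u) c' := by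
  have h := D.sem_mul (D.sem_mul h1 h2) (D.sem_inv h1)
  have e1 : τ * 1 * τ⁻¹ = 1 := by group
  have e2 : c * c' * c⁻¹ = c' := by rw [mul_comm c, mul_inv_cancel_right]
  rw [e1, e2] at h
  have e3 : w * Units.map (τ : L →* L) u * Units.map ((τ * 1 : L ≃ₐ[K] L) : L →* L)
      (Units.map ((τ⁻¹ : L ≃ₐ[K] L) : L →* L) w⁻¹) = Units.map (τ : L →* L) u := by
    have e4 : Units.map ((τ * 1 : L ≃ₐ[K] L) : L →* L) (Units.map ((τ⁻¹ : L ≃ₐ[K] L) : L →* L) w⁻¹) = w⁻¹ := by
      apply Units.ext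
      change τ (τ⁻¹ ((w⁻¹ : Lˣ) : L)) = _
      exact τ.apply_symm_apply _
    rw [e4, mul_comm w, mul_inv_cancel_right]
  rw [e3] at h
  exact h

theorem Dat.comm {a b : G K hq n} (ha : a ∈ D.T) (hb : b ∈ D.T) : a * b = b * a := by
  obtain ⟨w, c, h⟩ := ha
  obtain ⟨w', c', h'⟩ := hb
  have h1 := D.sem_mul h h'
  have h2 := D.sem_mul h' h
  refine D.eq_of_sem h1 ?_
  have e1 : w * Units.map ((1 : L ≃ₐ[K] L) : L →* L) w' = w' * Units.map ((1 : L ≃ₐ[K] L) : L →* L) w := by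
    apply Units.ext
    change (w : L) * w' = w' * w
    rw [mul_comm]
  rw [e1, mul_comm c c']
  exact h2

theorem Dat.tor : Tor D.T D.N D.B where
  le := D.T_le
  comm a ha b hb := D.comm ha hb
  norm := by
    rintro x ⟨τ, w, c, h⟩ t ⟨u, c', h'⟩
    exact ⟨_, _, D.sem_conj h h'⟩
  fus t ht htB g hg := D.fus ht htB hg

end Cfsg.Agent.H113.Cusp.Torus
end
end

-- part: H488/S4844/Co1Seven
section
prune_inst 0x1402444436200004000059673203c76ce0004b0002b0001d92009460d8eff2340822760cca03e04830aaaa500350060020001e9424000000e00060041190180008002003100a00030001680188711000000000000000000000080000004100400c010000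
set_option linter.all false
open scoped Cfsg.Agent.FastGrp

-- part: H488/S4844/Struct
section
/-!
# Characters of defect zero from class multiplication coefficients (helper488, S4844)

* `hasDZ_of_not_dvd` : `p ∤ #{(a, b) | x^a y^b = z}` ⇒ `HasDZ p G`
* `hasDZ_of_pairs` : `p ∤ |C(x)|`, `p ∤ |C(y)|`, `p ∤ #{(u, v) ∈ x^G × y^G | u v = z}` ⇒ `HasDZ p G`
* `hasDZ_of_inverts` : an involution `t` with `p ∤ |C(t)|` inverts an element `g` of odd prime order `q ≠ p` with
  `|C(g)| < p q` ⇒ `HasDZ p G`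
-/

set_option autoImplicit false

namespace Cfsg.Agent.H488.PSq

open Cfsg Cfsg.Agent.H665.NoPQ Cfsg.Agent.Characters.Core Cfsg.Agent.Characters.ClassMul
open scoped ComplexConjugate

variable {G : Type*} [Group G] [Finite G]

/-- The class multiplication coefficients are divisible by `p` if there is no character of defect zero. -/
theorem hasDZ_of_not_dvd {p : ℕ} (hp : p.Prime) (x y z : G)
    (h : ¬ p ∣ Nat.card {q : G × G // q.1 * x * q.1⁻¹ * (q.2 * y * q.2⁻¹) = z}) : HasDZ p G := by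
  classical
  by_contra hno
  apply h
  have := finite_irr (G := G)
  have := Fintype.ofFinite (IrrCharacter G)
  have key : ∀ χ : IrrCharacter G, ∃ m : ℕ, Nat.card G = p * m * charDegree (χ : G → ℂ) := by
    intro χ
    obtain ⟨a, ha⟩ := Cfsg.Agent.Blocks.Knorr.charDegree_dvd χ.2
    have h0 : charDegree (χ : G → ℂ) ≠ 0 := (Cfsg.Agent.Blocks.Basic.charDegree_pos χ.2).ne'
    have ha0 : a ≠ 0 := by
      rintro rfl
      rw [mul_zero] at ha
      exact Nat.card_pos.ne' ha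
    have hpa : p ∣ a := by
      by_contra hpa
      apply hno
      refine ⟨χ, ?_⟩
      rw [ha, Nat.factorization_mul h0 ha0, Finsupp.add_apply, Nat.factorization_eq_zero_of_not_dvd hpa, add_zero]
    obtain ⟨m, rfl⟩ := hpa
    exact ⟨m, by rw [ha]; ring⟩
  choose m hm using key
  have h1 := card_conj_mul_conj x y z
  have hp0 : (p : ℂ) ≠ 0 := by exact_mod_cast hp.ne_zero
  apply Cfsg.Agent.Characters.DegreeBounds.nat_dvd_of_isIntegral_div hp.ne_zero
  rw [h1]
  have h2 : (Nat.card G : ℂ) * ∑ χ : IrrCharacter G,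
      (χ : G → ℂ) x * (χ : G → ℂ) y * conj ((χ : G → ℂ) z) / (χ : G → ℂ) 1 =
      p * ∑ χ : IrrCharacter G, (m χ : ℂ) * ((χ : G → ℂ) x * (χ : G → ℂ) y * conj ((χ : G → ℂ) z)) := by
    rw [Finset.mul_sum, Finset.mul_sum]
    refine Finset.sum_congr rfl fun χ _ => ?_
    have h3 := Cfsg.Agent.Blocks.Basic.irr_one_eq_charDegree χ.2
    have h4 : (charDegree (χ : G → ℂ) : ℂ) ≠ 0 := by
      exact_mod_cast (Cfsg.Agent.Blocks.Basic.charDegree_pos χ.2).ne'
    rw [h3, hm χ]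
    push_cast
    field_simp
  rw [h2, mul_div_cancel_left₀ _ hp0]
  apply IsIntegral.sum
  intro χ _
  have h5 : ∀ g : G, IsIntegral ℤ ((χ : G → ℂ) g) := fun g =>
    Cfsg.Agent.CharactersDeep.ModCongr.isIntegral_irr χ.2 g
  refine IsIntegral.mul (by exact_mod_cast (isIntegral_algebraMap (R := ℤ) (A := ℂ) (x := (m χ : ℤ)))) (IsIntegral.mul (IsIntegral.mul (h5 x) (h5 y)) ?_)
  exact Cfsg.Agent.CharactersDeep.AChar.isIntegral_conj (h5 z)

/-- The version with pairs of elements. -/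
theorem hasDZ_of_pairs {p : ℕ} (hp : p.Prime) (x y z : G)
    (hx : ¬ p ∣ Nat.card (Subgroup.centralizer ({x} : Set G)))
    (hy : ¬ p ∣ Nat.card (Subgroup.centralizer ({y} : Set G)))
    (h : ¬ p ∣ Nat.card {q : G × G // IsConj x q.1 ∧ IsConj y q.2 ∧ q.1 * q.2 = z}) : HasDZ p G := by
  apply hasDZ_of_not_dvd hp x y z
  rw [card_conj_mul_conj_eq, hp.dvd_mul, hp.dvd_mul]
  rintro ((h1 | h1) | h1)
  · exact hx h1
  · exact hy h1
  · exact h h1

/-- The pairs of conjugates of `t` with product `g`. -/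
abbrev PP (t g : G) : Type _ := {q : G × G // IsConj t q.1 ∧ IsConj t q.2 ∧ q.1 * q.2 = g}

/-- conjugation by the powers of `g` -/
instance act (t g : G) : MulAction (Subgroup.zpowers g) (PP t g) where
  smul c x := ⟨((c : G) * x.1.1 * (c : G)⁻¹, (c : G) * x.1.2 * (c : G)⁻¹),
    x.2.1.trans (isConj_iff.2 ⟨c, rfl⟩), x.2.2.1.trans (isConj_iff.2 ⟨c, rfl⟩), by
      have h1 := x.2.2.2
      obtain ⟨k, hk⟩ := Subgroup.mem_zpowers_iff.1 c.2
      have h2 : (c : G) * g = g * (c : G) := by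
        rw [← hk]
        exact ((Commute.refl g).zpow_left k).eq
      calc (c : G) * x.1.1 * (c : G)⁻¹ * ((c : G) * x.1.2 * (c : G)⁻¹) = (c : G) * (x.1.1 * x.1.2) * (c : G)⁻¹ := by group
        _ = g := by rw [h1, h2, mul_inv_cancel_right]⟩
  one_smul x := by
    apply Subtype.ext
    apply Prod.ext
    · show (1 : G) * x.1.1 * (1 : G)⁻¹ = _
      group
    · show (1 : G) * x.1.2 * (1 : G)⁻¹ = _
      group
  mul_smul c d x := by
    apply Subtype.ext
    apply Prod.ext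
    · show ((c : G) * (d : G)) * x.1.1 * ((c : G) * (d : G))⁻¹ = (c : G) * ((d : G) * x.1.1 * (d : G)⁻¹) * (c : G)⁻¹
      group
    · show ((c : G) * (d : G)) * x.1.2 * ((c : G) * (d : G))⁻¹ = (c : G) * ((d : G) * x.1.2 * (d : G)⁻¹) * (c : G)⁻¹
      group

omit [Finite G] in
theorem inverts_aux {u v g : G} (h1 : u * u = 1) (h2 : v * v = 1) (h3 : u * v = g) : u * g * u⁻¹ = g⁻¹ := by
  have h4 : u⁻¹ = u := inv_eq_of_mul_eq_one_left h1
  have h5 : v⁻¹ = v := inv_eq_of_mul_eq_one_left h2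
  rw [← h3, mul_inv_rev, h4, h5, ← mul_assoc, h1, one_mul]

omit [Finite G] in
theorem inverts {t g : G} (ht : t * t = 1) (x : PP t g) : x.1.1 * g * x.1.1⁻¹ = g⁻¹ := by
  have h0 : ∀ u : G, IsConj t u → u * u = 1 := by
    intro u hu
    obtain ⟨c, rfl⟩ := isConj_iff.1 hu
    calc c * t * c⁻¹ * (c * t * c⁻¹) = c * (t * t) * c⁻¹ := by group
      _ = 1 := by rw [ht]; group
  exact inverts_aux (h0 _ x.2.1) (h0 _ x.2.2.1) x.2.2.2

theorem card_le {t g : G} (ht : t * t = 1) : Nat.card (PP t g) ≤ Nat.card (Subgroup.centralizer ({g} : Set G)) := by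
  rcases isEmpty_or_nonempty (PP t g) with h | ⟨⟨x₀⟩⟩
  · rw [Nat.card_of_isEmpty]
    exact Nat.zero_le _
  · refine Nat.card_le_card_of_injective (fun x => ⟨x₀.1.1⁻¹ * x.1.1, ?_⟩) ?_
    · rw [Subgroup.mem_centralizer_singleton_iff]
      have h1 := inverts ht x₀
      have h2 := inverts ht x
      have h3 : x₀.1.1⁻¹ * g⁻¹ * x₀.1.1 = g := by
        rw [← h1]; group
      have h4 : x.1.1 * g = g⁻¹ * x.1.1 := by
        rw [← h2]; group
      calc x₀.1.1⁻¹ * x.1.1 * g = x₀.1.1⁻¹ * (x.1.1 * g) := by group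
        _ = (x₀.1.1⁻¹ * g⁻¹ * x₀.1.1) * (x₀.1.1⁻¹ * x.1.1) := by rw [h4]; group
        _ = g * (x₀.1.1⁻¹ * x.1.1) := by rw [h3]
    · intro x y hxy
      have h1 : x.1.1 = y.1.1 := mul_left_cancel (congrArg Subtype.val hxy)
      apply Subtype.ext
      apply Prod.ext h1
      have h2 : x.1.1 * x.1.2 = y.1.1 * y.1.2 := x.2.2.2.trans y.2.2.2.symm
      rw [h1] at h2
      exact mul_left_cancel h2

/-- **The criterion.** -/
theorem hasDZ_of_inverts {p q : ℕ} (hp : p.Prime) [hq : Fact q.Prime] (hq2 : q ≠ 2) (hpq : p ≠ q) {t g : G}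
    (ht : t * t = 1) (htp : ¬ p ∣ Nat.card (Subgroup.centralizer ({t} : Set G))) (hg : orderOf g = q)
    (hinv : t * g * t⁻¹ = g⁻¹) (hc : Nat.card (Subgroup.centralizer ({g} : Set G)) < p * q) : HasDZ p G := by
  apply hasDZ_of_pairs hp t t g htp htp
  intro hdvd
  have hle : Nat.card (PP t g) ≤ _ := card_le ht
  have hti : t⁻¹ = t := inv_eq_of_mul_eq_one_left ht
  -- the set is not empty
  have hpos : 0 < Nat.card (PP t g) := by
    have h0 : Nonempty (PP t g) := by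
      refine ⟨⟨(t, t⁻¹ * g), IsConj.refl t, ?_, by group⟩⟩
      obtain ⟨k, hk⟩ := hq.out.eq_two_or_odd'.resolve_left hq2
      rw [isConj_iff]
      refine ⟨g ^ k, ?_⟩
      have h1 : t⁻¹ * g ^ k * t = g⁻¹ ^ k := by
        have h2 := congrArg (fun a => a ^ k) hinv
        simp only [conj_pow] at h2
        rw [hti] at h2 ⊢
        exact h2
      have h3 : g ^ q = 1 := by rw [← hg, pow_orderOf_eq_one]
      have h4 : g⁻¹ ^ k * (g ^ k)⁻¹ = g := by
        rw [inv_pow, ← mul_inv_rev, ← pow_add, inv_eq_iff_eq_inv, eq_inv_iff_mul_eq_one, ← pow_succ]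
        rw [← h3]
        congr 1
        omega
      calc g ^ k * t * (g ^ k)⁻¹ = t * (t⁻¹ * g ^ k * t) * (g ^ k)⁻¹ := by group
        _ = t * (g⁻¹ ^ k * (g ^ k)⁻¹) := by rw [h1]; group
        _ = t⁻¹ * g := by rw [h4, hti]
    exact Nat.card_pos
  -- `q` divides the number of pairs
  have hqd : q ∣ Nat.card (PP t g) := by
    have hP : IsPGroup q (Subgroup.zpowers g) := by
      apply IsPGroup.of_card (n := 1)
      rw [Nat.card_zpowers, hg, pow_one]
    have h1 := hP.card_modEq_card_fixedPoints (PP t g)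
    have h2 : IsEmpty (MulAction.fixedPoints (Subgroup.zpowers g) (PP t g)) := by
      refine ⟨fun x => ?_⟩
      have h3 := x.2 ⟨g, Subgroup.mem_zpowers g⟩
      have h4 : g * (x : PP t g).1.1 * g⁻¹ = (x : PP t g).1.1 := by
        have := congrArg (fun a : PP t g => a.1.1) h3
        exact this
      have h5 := inverts ht (x : PP t g)
      have h6 : (x : PP t g).1.1 * g * (x : PP t g).1.1⁻¹ = g := by
        have h7 : g * (x : PP t g).1.1 = (x : PP t g).1.1 * g := by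
          rw [mul_inv_eq_iff_eq_mul] at h4
          exact h4
        rw [← h7]; group
      rw [h6] at h5
      have h8 : g ^ 2 = 1 := by
        rw [pow_two]
        nth_rewrite 2 [h5]
        exact mul_inv_cancel g
      have h9 := orderOf_dvd_of_pow_eq_one h8
      rw [hg] at h9
      exact hq2 ((Nat.prime_dvd_prime_iff_eq hq.out Nat.prime_two).1 h9)
    rw [Nat.card_of_isEmpty (α := MulAction.fixedPoints (Subgroup.zpowers g) (PP t g))] at h1
    exact (Nat.modEq_zero_iff_dvd).1 h1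
  have hcop : Nat.Coprime p q := (Nat.coprime_primes hp hq.out).2 hpq
  have h1 := Nat.le_of_dvd hpos (hcop.mul_dvd_of_dvd_of_dvd hdvd hqd)
  omega

end Cfsg.Agent.H488.PSq
end

-- part: H488/S4844/Co1Seven
section
/-!
# `Co1` has a character of 7-defect zero (helper488, S4844)

The class `2C` (dodecads): `7 ∤ |C(t)|`, `t` inverts an element `y` of order 11 and `|C(y)| = 66 < 77`.
-/

set_option autoImplicit false

namespace Cfsg.Agent.H488.PSq.Co1Seven

open Cfsg Subgroup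
open scoped Pointwise
open Cfsg.Agent.SporadicA.GolayBase Cfsg.Agent.SporadicA.GolayPerm
open Cfsg.Agent.SporadicStructure.M24El
open Cfsg.Agent.SporadicA.Co0Mono
open Cfsg.Agent.SporadicA.Co1Simple (allOne exists_sign_perm)
open Cfsg.Agent.CoOneType.SignFacts (wt sup wt_add_allOne sign_allOne_comm sup_add_allOne)
open Cfsg.Agent.CoOneType.ClosingFacts (mk mk_mul mk_inv exists_mk mk_eq_one mk_eq isConj_mk isConj_dvd)
open Cfsg.Agent.KFacts.Co1D4
open Cfsg.Agent.Co2Type.Mono (tr8 tr8_conj)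
open Cfsg.Agent.CTwoTab.Co1 (conj_sign)
open Cfsg.Agent.H665.NoPQ (HasDZ)

/-- powers of a monomial element -/
theorem pow_eq (a : golayCode) (σ : M24) (n : ℕ) :
    ∃ b : golayCode, (signCo0 a * permCo0 σ) ^ n = signCo0 b * permCo0 (σ ^ n) := by
  induction n with
  | zero => exact ⟨0, by rw [pow_zero, pow_zero, signCo0_zero, map_one, one_mul]⟩
  | succ n ih =>
    obtain ⟨b, hb⟩ := ih
    refine ⟨b + wordPerm (σ ^ n) a, ?_⟩
    rw [pow_succ, hb, signCo0_add, pow_succ σ n, map_mul]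
    calc signCo0 b * permCo0 (σ ^ n) * (signCo0 a * permCo0 σ) =
        signCo0 b * (permCo0 (σ ^ n) * signCo0 a) * permCo0 σ := by group
      _ = signCo0 b * (signCo0 (wordPerm (σ ^ n) a) * permCo0 (σ ^ n)) * permCo0 σ := by rw [perm_mul_sign]
      _ = _ := by group

theorem perm_of_mk_one {b : golayCode} {σ : M24} (h : _root_.Cfsg.Agent.CoOneType.ClosingFacts.mk (signCo0 b * permCo0 σ) = 1) : σ = 1 := by
  rw [mk_eq_one] at h
  rcases h with h | h
  · have h1 : signCo0 b * permCo0 σ = signCo0 0 * permCo0 1 := by rw [h, signCo0_zero, map_one, one_mul]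
    exact (Cfsg.Agent.CoOneType.InvMain.sp_inj h1).2
  · have h1 : signCo0 b * permCo0 σ = signCo0 allOne * permCo0 1 := by rw [h, map_one, mul_one]
    exact (Cfsg.Agent.CoOneType.InvMain.sp_inj h1).2

/-- The order of the centralizer of a dodecad involution is not divisible by 7. -/
theorem not_seven {d : golayCode} (hd : wt d = 12) :
    ¬ 7 ∣ Nat.card (centralizer ({_root_.Cfsg.Agent.CoOneType.ClosingFacts.mk (signCo0 d)} : Set Spor.Co1)) := by
  intro h
  have hfin : Finite Spor.Co1 := Nat.finite_of_card_ne_zero (by rw [Cfsg.Agent.S0399.result.2]; norm_num)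
  have : Fact (Nat.Prime 7) := ⟨by norm_num⟩
  obtain ⟨⟨k, hk⟩, ho⟩ := exists_prime_orderOf_dvd_card' 7 h
  have ho' : orderOf k = 7 := by
    rw [← ho]
    exact (Subgroup.orderOf_coe (⟨k, hk⟩ : centralizer ({_root_.Cfsg.Agent.CoOneType.ClosingFacts.mk (signCo0 d)} : Set Spor.Co1))).symm.symm
  rw [mem_centralizer_singleton_iff] at hk
  obtain ⟨g, rfl⟩ := exists_mk k
  obtain ⟨a, σ, rfl⟩ := exists_sign_perm (DodBal.mem_N hd hk)
  have h1 := conj_sign a d σ
  rw [hk, mul_inv_cancel_right] at h1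
  -- the order of `σ`
  have h7 : σ ^ 7 = 1 := by
    obtain ⟨b, hb⟩ := pow_eq a σ 7
    apply perm_of_mk_one (b := b)
    rw [← hb]
    show _root_.Cfsg.Agent.CoOneType.ClosingFacts.mk (signCo0 a * permCo0 σ) ^ 7 = 1
    rw [← ho', pow_orderOf_eq_one]
  have hs1 : σ ≠ 1 := by
    rintro rfl
    have h2 : _root_.Cfsg.Agent.CoOneType.ClosingFacts.mk (signCo0 a * permCo0 1) ^ 2 = 1 := by
      rw [pow_two, ← mk_mul, map_one, mul_one, signCo0_mul_self]; rfl
    have h3 := orderOf_dvd_of_pow_eq_one h2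
    rw [ho'] at h3
    omega
  -- `σ ^ 2` fixes the dodecad
  have h2 : (σ ^ 2) • sup d = sup d := by
    have h3 : σ • sup d = sup d ∨ σ • sup d = (sup d)ᶜ := by
      rw [← Cfsg.Agent.CoOneType.CoOneE.sup_wordPerm, ← sup_add_allOne]
      rcases DodBal.mk_sign_eq h1.symm with h8 | h8
      · left; rw [h8]
      · right; rw [h8]
    rw [pow_two, mul_smul]
    rcases h3 with h3 | h3
    · rw [h3, h3]
    · rw [h3]
      have h4 : σ • (sup d)ᶜ = (σ • sup d)ᶜ := by
        ext i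
        rw [Finset.mem_compl, ← Finset.inv_smul_mem_iff, Finset.mem_compl, Finset.inv_smul_mem_iff]
      rw [h4, h3, compl_compl]
  have hd' : sup d ∈ dodecads := ⟨Cfsg.Agent.CoOneType.SignFacts.sup_mem d, hd⟩
  have hc := Cfsg.Agent.S0382.result (sup d) hd'
  have h5 : orderOf (σ ^ 2) = 7 := by
    apply orderOf_eq_prime
    · rw [← pow_mul, mul_comm, pow_mul, h7, one_pow]
    · intro h6
      apply hs1
      have h8 : σ ^ 7 = σ ^ 2 * σ ^ 2 * σ ^ 2 * σ := by group
      rw [h7, h6, one_mul, one_mul, one_mul] at h8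
      exact h8.symm
  have h6 := _root_.orderOf_dvd_natCard (⟨σ ^ 2, h2⟩ : MulAction.stabilizer M24 (sup d))
  rw [← Subgroup.orderOf_coe, hc] at h6
  change orderOf (σ ^ 2) ∣ 95040 at h6
  rw [h5] at h6
  omega

/-! ### the involution of `M24` -/

open Cfsg.Agent.H729.MData (c11)

/-- a fixed point free involution inverting `c11` -/
def cT : ℕ := 1795248432537898728475572672376535

theorem ok11 : ok c11 = true := by decide +kernel
theorem okT : ok cT = true := by decide +kernel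

theorem TT : el cT * el cT = 1 := by
  rw [← el_pcomp okT okT, ← el_idP]
  congr 1

theorem TyT : el cT * el c11 * el cT * el c11 = 1 := by
  rw [← el_pcomp okT ok11, ← el_pcomp (ok_pcomp okT ok11) okT, ← el_pcomp (ok_pcomp (ok_pcomp okT ok11) okT) ok11,
    ← el_idP]
  congr 1

theorem fixT : Nat.card (MulAction.fixedBy GolayPt (el cT)) = 0 := by
  have h1 : IsEmpty (MulAction.fixedBy GolayPt (el cT)) := by
    refine ⟨fun ⟨p, hp⟩ => ?_⟩
    have h2 : el cT • p = p := hp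
    have h3 := congrArg idx h2
    rw [idx_el_smul okT] at h3
    have h4 : ∀ i < 24, papp cT i ≠ i := by decide +kernel
    exact h4 _ (idx_lt p) h3
  rw [Nat.card_of_isEmpty]

/-- the involution -/
noncomputable def t : Spor.Co1 := _root_.Cfsg.Agent.CoOneType.ClosingFacts.mk (permCo0 (el cT))

/-- the element of order 11 -/
noncomputable def y : Spor.Co1 := _root_.Cfsg.Agent.CoOneType.ClosingFacts.mk (permCo0 (el c11))

theorem tt : t * t = 1 := by
  show _root_.Cfsg.Agent.CoOneType.ClosingFacts.mk (permCo0 (el cT) * permCo0 (el cT)) = 1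
  rw [← map_mul, TT, map_one]; rfl

theorem tyt : t * y * t⁻¹ = y⁻¹ := by
  have h1 : t⁻¹ = t := inv_eq_of_mul_eq_one_left tt
  rw [h1, eq_inv_iff_mul_eq_one]
  show _root_.Cfsg.Agent.CoOneType.ClosingFacts.mk (permCo0 (el cT) * permCo0 (el c11) * permCo0 (el cT) * permCo0 (el c11)) = 1
  rw [← map_mul, ← map_mul, ← map_mul, TyT, map_one]; rfl

theorem order_y : orderOf y = 11 := by
  have : Fact (Nat.Prime 11) := ⟨by norm_num⟩
  apply orderOf_eq_prime
  · show Cfsg.Agent.CoOneType.ClosingFacts.mk (permCo0 (el c11) ^ 11) = 1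
    rw [← map_pow, ← Cfsg.Agent.H729.M24Deg.o11, pow_orderOf_eq_one, map_one]; rfl
  · intro h
    have h1 : _root_.Cfsg.Agent.CoOneType.ClosingFacts.mk (signCo0 0 * permCo0 (el c11)) = 1 := by
      rw [signCo0_zero, one_mul]
      exact h
    have h2 := perm_of_mk_one h1
    have h3 := Cfsg.Agent.H729.M24Deg.o11
    rw [h2, orderOf_one] at h3
    omega

theorem exists_dod : ∃ c : golayCode, wt c = 12 ∧ IsConj t (_root_.Cfsg.Agent.CoOneType.ClosingFacts.mk (signCo0 c)) := by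
  have h0 : permCo0 (el cT) * permCo0 (el cT) = 1 := by rw [← map_mul, TT, map_one]
  obtain ⟨g, c, hg⟩ := Cfsg.Agent.CoOneType.ClosingCo1.a1 _ h0
  refine ⟨c, ?_, isConj_mk g hg⟩
  have h1 := Cfsg.Agent.BpSpor.Co2.Five.tr8_sign c
  rw [← hg, tr8_conj, Cfsg.Agent.H419.LeechFix.tr8_perm, fixT] at h1
  push_cast at h1
  omega

theorem not_seven_t : ¬ 7 ∣ Nat.card (centralizer ({t} : Set Spor.Co1)) := by
  obtain ⟨c, hc, h⟩ := exists_dod
  intro h7
  exact not_seven hc (isConj_dvd h h7)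

/-- **`Co1` has a character of 7-defect zero.** -/
theorem hasDZ : HasDZ 7 Spor.Co1 := by
  have hfin : Finite Spor.Co1 := Nat.finite_of_card_ne_zero (by rw [Cfsg.Agent.S0399.result.2]; norm_num)
  have : Fact (Nat.Prime 11) := ⟨by norm_num⟩
  refine hasDZ_of_inverts (q := 11) (by norm_num) (by norm_num) (by norm_num) tt not_seven_t order_y tyt ?_
  exact lt_of_le_of_lt (Cfsg.Agent.H546.MElevenCo.card_cent order_y) (by norm_num)

end Cfsg.Agent.H488.PSq.Co1Seven
end
end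
end
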